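import Groth.Agent.Sga7.H150.Quad
import Groth.Agent.Sga7.H592.SncAlg
import Groth.Agent.Resolve.K373.ColenAlg
import Groth.Agent.Dix.RegTwoDim

/-!
# Ideals in strict normal crossings form (helper346)

* `GoodR A J`: the ideal `J` of the local ring `A` is generated by a nonzerodivisor in strict normal crossings form.
* `of_dim_le_one`: automatic in dimension at most one for `J ≠ ⊥`.
* `of_pow`: powers of ideals generated by an element of `𝔪 ∖ 𝔪²`.
* `exists_params`: the regular system of parameters describing the radical, in dimension at most two.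
-/

set_option autoImplicit false
universe u

open IsLocalRing

namespace K346.GoodRing

open Groth.Agent Groth.Agent.Sga7.H744.Defs Groth.Agent.Sga7.H150.Quad Groth.Agent.Sga7.H592

/-- The ideal is generated by a nonzerodivisor in strict normal crossings form. -/
def GoodR (A : Type u) [CommRing A] [IsLocalRing A] (J : Ideal A) : Prop :=
  ∃ t ∈ nonZeroDivisors A, J = Ideal.span {t} ∧ IsSNCElt A t

theorem GoodR.map_equiv {A B : Type u} [CommRing A] [IsLocalRing A] [CommRing B] [IsLocalRing B] (e : A ≃+* B)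
    {J : Ideal A} (h : GoodR A J) : GoodR B (J.map (e : A →+* B)) := by
  obtain ⟨t, ht, rfl, hs⟩ := h
  refine ⟨e t, ?_, ?_, SncAlg.isSNCElt_of_ringEquiv e hs⟩
  · rw [mem_nonZeroDivisors_iff_right] at ht ⊢
    intro z hz
    have h2 : e.symm z * t = 0 := by
      apply e.injective
      rw [map_mul, e.apply_symm_apply, hz, map_zero]
    have h3 := ht _ h2
    rw [← e.apply_symm_apply z, h3, map_zero]
  · rw [Ideal.map_span, Set.image_singleton]
    rfl

theorem goodR_map_equiv_iff {A B : Type u} [CommRing A] [IsLocalRing A] [CommRing B] [IsLocalRing B] (e : A ≃+* B)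
    (J : Ideal A) : GoodR B (J.map (e : A →+* B)) ↔ GoodR A J := by
  refine ⟨fun h => ?_, fun h => h.map_equiv e⟩
  have h1 := h.map_equiv e.symm
  rw [Ideal.map_map] at h1
  have h2 : (e.symm : B →+* A).comp (e : A →+* B) = RingHom.id A := by ext; simp
  rwa [h2, Ideal.map_id] at h1

/-- The normal crossings condition does not depend on the generator. -/
theorem isSNCElt_of_goodR {A : Type u} [CommRing A] [IsLocalRing A] [IsDomain A] {t : A}
    (h : GoodR A (Ideal.span {t})) : IsSNCElt A t := by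
  obtain ⟨s, hs, hts, h⟩ := h
  rw [Ideal.span_singleton_eq_span_singleton] at hts
  obtain ⟨v, hv⟩ := hts.symm
  rw [← hv, mul_comm]
  exact SncAlg.isSNCElt_unit_mul v h

/-- The unit ideal is in normal crossings form. -/
theorem goodR_top (A : Type u) [CommRing A] [IsLocalRing A] : GoodR A ⊤ :=
  ⟨1, one_mem _, Ideal.span_singleton_one.symm, SncAlg.isSNCElt_of_isUnit isUnit_one⟩

/-- Powers of an ideal generated by an element of `𝔪 ∖ 𝔪²`. -/
theorem goodR_pow {A : Type u} [CommRing A] [IsRegularLocalRing A] (x : A) (hx : x ∈ maximalIdeal A)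
    (hx2 : x ∉ maximalIdeal A ^ 2) (a : ℕ) : GoodR A (Ideal.span {x} ^ a) := by
  have hdom := CalgA.RegBasic.isDomain A
  have hx0 : x ≠ 0 := by
    rintro rfl
    exact hx2 (Ideal.zero_mem _)
  rw [Ideal.span_singleton_pow]
  refine ⟨x ^ a, mem_nonZeroDivisors_of_ne_zero (pow_ne_zero a hx0), rfl, ?_⟩
  rcases Nat.eq_zero_or_pos a with rfl | ha
  · rw [pow_zero]
    exact SncAlg.isSNCElt_of_isUnit isUnit_one
  · have := SncAlg.isSNCElt_of_eq x hx hx2 a ha 1
    rwa [Units.val_one, one_mul] at this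

/-- The maximal ideal of a regular local ring of dimension one. -/
theorem exists_uniformizer {A : Type u} [CommRing A] [IsRegularLocalRing A] (hA : ringKrullDim A ≤ 1)
    (h0 : maximalIdeal A ≠ ⊥) : ∃ π : A, maximalIdeal A = Ideal.span {π} ∧ π ∈ maximalIdeal A ∧
      π ∉ maximalIdeal A ^ 2 ∧ ∀ J : Ideal A, J ≠ ⊥ → ∃ n : ℕ, J = Ideal.span {π} ^ n := by
  have hdom := CalgA.RegBasic.isDomain A
  have h1 := Groth.Agent.Dix.RegTwoDim.isPrincipalIdealRing A hA
  obtain ⟨π, hπ⟩ := (IsPrincipalIdealRing.principal (maximalIdeal A)).principal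
  rw [← Ideal.span] at hπ
  have hfield : ¬ IsField A := by
    intro h
    exact h0 ((isField_iff_maximalIdeal_eq (R := A)).1 h)
  have hdvr : IsDiscreteValuationRing A := by
    have hT := (IsDiscreteValuationRing.TFAE A hfield).out 0 4
    exact hT.2 (IsPrincipalIdealRing.principal (maximalIdeal A))
  have hirr : Irreducible π := (IsDiscreteValuationRing.irreducible_iff_uniformizer π).2 hπ
  refine ⟨π, hπ, hπ ▸ Ideal.mem_span_singleton_self π, ?_, ?_⟩
  · intro h
    rw [hπ, Ideal.span_singleton_pow, Ideal.mem_span_singleton] at h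
    obtain ⟨c, hc⟩ := h
    have h2 : π * (π * c - 1) = 0 := by linear_combination -hc
    rcases mul_eq_zero.1 h2 with h3 | h3
    · exact hirr.ne_zero h3
    · exact hirr.not_isUnit (IsUnit.of_mul_eq_one c (sub_eq_zero.1 h3))
  · intro J hJ
    obtain ⟨n, hn⟩ := IsDiscreteValuationRing.ideal_eq_span_pow_irreducible hJ hirr
    exact ⟨n, by rw [hn, Ideal.span_singleton_pow]⟩

/-- In dimension at most one all nonzero ideals are in normal crossings form. -/
theorem goodR_of_dim_le_one {A : Type u} [CommRing A] [IsRegularLocalRing A] (hA : ringKrullDim A ≤ 1) {J : Ideal A}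
    (hJ : J ≠ ⊥) : GoodR A J := by
  have hdom := CalgA.RegBasic.isDomain A
  by_cases h0 : maximalIdeal A = ⊥
  · by_cases hJt : J = ⊤
    · rw [hJt]; exact goodR_top A
    · exact absurd (le_bot_iff.1 (h0 ▸ le_maximalIdeal hJt)) hJ
  · obtain ⟨π, -, h1, h2, h3⟩ := exists_uniformizer hA h0
    obtain ⟨n, rfl⟩ := h3 J hJ
    exact goodR_pow π h1 h2 n

/-! ### dimension two -/

theorem exists_unit_coeff {A : Type u} [CommRing A] [IsLocalRing A] {x y f : A}
    (hxy : Ideal.span {x, y} = maximalIdeal A) (hf : f ∈ maximalIdeal A) (hf2 : f ∉ maximalIdeal A ^ 2) :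
    ∃ g, (g = x ∨ g = y) ∧ Ideal.span {f, g} = maximalIdeal A := by
  have h1 := hf
  rw [← hxy, Ideal.mem_span_pair] at h1
  obtain ⟨a, b, hab⟩ := h1
  have hx : x ∈ maximalIdeal A := mem_left hxy
  have hy : y ∈ maximalIdeal A := mem_right hxy
  have key : ∀ x y a b : A, Ideal.span {x, y} = maximalIdeal A → a * x + b * y = f → IsUnit a →
      Ideal.span {f, y} = maximalIdeal A := by
    intro x y a b hxy hab ha
    have hy : y ∈ maximalIdeal A := mem_right hxy
    apply le_antisymm
    · rw [Ideal.span_le]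
      rintro z (rfl | rfl)
      · exact hf
      · exact hy
    · rw [← hxy, Ideal.span_le]
      rintro z (rfl | rfl)
      · obtain ⟨u, rfl⟩ := ha
        rw [SetLike.mem_coe, Ideal.mem_span_pair]
        refine ⟨(u⁻¹ : Aˣ), -(u⁻¹ : Aˣ) * b, ?_⟩
        rw [← hab]
        linear_combination (Units.inv_mul u) * z
      · exact Ideal.subset_span (by simp)
  by_cases ha : IsUnit a
  · exact ⟨y, Or.inr rfl, key x y a b hxy hab ha⟩
  · by_cases hb : IsUnit b
    · exact ⟨x, Or.inl rfl, key y x b a (comm_span hxy) (by rw [← hab, add_comm]) hb⟩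
    · exfalso
      apply hf2
      rw [← hab, pow_two]
      exact Ideal.add_mem _ (Ideal.mul_mem_mul ((mem_maximalIdeal a).2 ha) hx)
        (Ideal.mul_mem_mul ((mem_maximalIdeal b).2 hb) hy)

theorem exists_span_pair {A : Type u} [CommRing A] [IsRegularLocalRing A] (hA : ringKrullDim A = 2) :
    ∃ x y : A, Ideal.span {x, y} = maximalIdeal A := by
  obtain ⟨x, y, h⟩ := Groth.Agent.Dix.RegTwoDim.exists_span_pair (R := A) hA
  exact ⟨x, y, h.symm⟩

/-- In dimension two the normal crossings elements are the `u f ^ a g ^ b`. -/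
theorem snc2_of_isSNCElt {A : Type u} [CommRing A] [IsRegularLocalRing A] (hA : ringKrullDim A = 2) {t : A}
    (h : IsSNCElt A t) : SNC2 A t := by
  obtain ⟨x, y, hxy⟩ := exists_span_pair hA
  obtain ⟨r, f, hf, a, u, ha, hli, rfl⟩ := h
  have h1 := IsRegularLocalRing.spanFinrank_maximalIdeal (R := A)
  rw [hA, IsLocalRing.spanFinrank_maximalIdeal_eq_finrank_cotangentSpace] at h1
  have h2 : Module.finrank (ResidueField A) (CotangentSpace A) = 2 := by exact_mod_cast h1
  have hr : r ≤ 2 := by
    have := hli.fintype_card_le_finrank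
    rwa [Fintype.card_fin, h2] at this
  have hf2 : ∀ i, f i ∉ maximalIdeal A ^ 2 := by
    intro i h
    exact hli.ne_zero i ((Ideal.toCotangent_eq_zero _ _).2 h)
  obtain rfl | rfl | rfl : r = 0 ∨ r = 1 ∨ r = 2 := by omega
  · exact ⟨x, y, hxy, 0, 0, u, by simp⟩
  · obtain ⟨g, -, hg⟩ := exists_unit_coeff hxy (hf 0) (hf2 0)
    exact ⟨f 0, g, hg, a 0, 0, u, by simp⟩
  · obtain ⟨g, -, hg⟩ := exists_unit_coeff hxy (hf 0) (hf2 0)
    have h3 := hf 1
    rw [← hg, Ideal.mem_span_pair] at h3
    obtain ⟨c, d, hcd⟩ := h3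
    have hd : IsUnit d := by
      by_contra hd
      have h4 : f 1 - c * f 0 ∈ maximalIdeal A ^ 2 := by
        have : f 1 - c * f 0 = d * g := by rw [← hcd]; ring
        rw [this, pow_two]
        exact Ideal.mul_mem_mul ((mem_maximalIdeal d).2 hd) (mem_right hg)
      have h5 : (maximalIdeal A).toCotangent (⟨f 1, hf 1⟩ - c • ⟨f 0, hf 0⟩) = 0 := by
        rw [Ideal.toCotangent_eq_zero]
        exact h4
      rw [map_sub, map_smul] at h5
      have h6 : (residue A (-c)) • (maximalIdeal A).toCotangent ⟨f 0, hf 0⟩ +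
          (residue A 1) • (maximalIdeal A).toCotangent ⟨f 1, hf 1⟩ = 0 := by
        rw [map_neg, map_one, one_smul, neg_smul, ← h5]
        have : (residue A c) • (maximalIdeal A).toCotangent ⟨f 0, hf 0⟩ =
          c • (maximalIdeal A).toCotangent ⟨f 0, hf 0⟩ := rfl
        rw [this]
        abel
      rw [Fintype.linearIndependent_iff] at hli
      have h7 := hli (fun i => if i = 0 then residue A (-c) else residue A 1) (by
        rw [Fin.sum_univ_two]
        simpa using h6) 1
      simp at h7
    refine ⟨f 0, f 1, ?_, a 0, a 1, u, by rw [Fin.prod_univ_two, mul_assoc]⟩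
    apply le_antisymm
    · rw [Ideal.span_le]
      rintro z (rfl | rfl)
      · exact hf 0
      · exact hf 1
    · rw [← hg, Ideal.span_le]
      rintro z (rfl | rfl)
      · exact Ideal.subset_span (by simp)
      · obtain ⟨v, rfl⟩ := hd
        rw [SetLike.mem_coe, Ideal.mem_span_pair]
        refine ⟨-(v⁻¹ : Aˣ) * c, (v⁻¹ : Aˣ), ?_⟩
        rw [← hcd]
        linear_combination (Units.inv_mul v) * z

theorem radical_span_pow {A : Type u} [CommRing A] {f : A} (hf : Prime f) {n : ℕ} (hn : 1 ≤ n) :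
    (Ideal.span {f ^ n}).radical = Ideal.span {f} := by
  rw [← Ideal.span_singleton_pow, Ideal.radical_pow _ (by omega)]
  have : (Ideal.span {f}).IsPrime := (Ideal.span_singleton_prime hf.ne_zero).2 hf
  exact this.radical

theorem radical_span_mul {A : Type u} [CommRing A] [IsDomain A] {f g : A} (hf : Prime f) (hg : Prime g)
    (hfg : ¬ f ∣ g) {a b : ℕ} (ha : 1 ≤ a) (hb : 1 ≤ b) :
    (Ideal.span {f ^ a * g ^ b}).radical = Ideal.span {f * g} := by
  rw [← Ideal.span_singleton_mul_span_singleton, Ideal.radical_mul, radical_span_pow hf ha, radical_span_pow hg hb]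
  apply le_antisymm
  · rintro z ⟨h1, h2⟩
    rw [SetLike.mem_coe, Ideal.mem_span_singleton] at h1 h2
    obtain ⟨c, rfl⟩ := h2
    rw [Ideal.mem_span_singleton, mul_comm f g]
    exact mul_dvd_mul_left g ((hf.dvd_or_dvd h1).resolve_left hfg)
  · rw [Ideal.span_singleton_le_iff_mem]
    exact ⟨Ideal.mem_span_singleton.2 (dvd_mul_right f g), Ideal.mem_span_singleton.2 (dvd_mul_left g f)⟩

/-- The regular system of parameters describing the radical. -/
theorem exists_params {A : Type u} [CommRing A] [IsRegularLocalRing A] (hA : ringKrullDim A ≤ 2) {J : Ideal A}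
    (hJ : GoodR A J) (hJt : J ≠ ⊤) : ∃ (d r : ℕ) (x : Fin d → A), 1 ≤ r ∧ r ≤ d ∧
      ringKrullDim A = (d : WithBot ℕ∞) ∧ Ideal.span (Set.range x) = maximalIdeal A ∧
      J.radical = Ideal.span {∏ i : Fin d, if (i : ℕ) < r then x i else 1} := by
  have hdom := CalgA.RegBasic.isDomain A
  obtain ⟨t, ht, rfl, hs⟩ := hJ
  obtain ⟨d, hd⟩ := CalgA.RegBasic.ringKrullDim_eq_natCast A
  have hd2 : d ≤ 2 := by
    rw [hd] at hA
    exact_mod_cast hA
  have ht0 : t ≠ 0 := nonZeroDivisors.ne_zero ht
  have hm0 : maximalIdeal A ≠ ⊥ := by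
    intro h
    have h1 := le_maximalIdeal hJt
    rw [h, le_bot_iff, Ideal.span_singleton_eq_bot] at h1
    exact ht0 h1
  obtain rfl | rfl | rfl : d = 0 ∨ d = 1 ∨ d = 2 := by omega
  · exfalso
    apply hm0
    have h1 : Ring.KrullDimLE 0 A := Ring.krullDimLE_iff.2 (by rw [hd])
    exact (isField_iff_maximalIdeal_eq (R := A)).1 ((Ring.KrullDimLE.isField_of_isDomain))
  · obtain ⟨π, h1, h2, h3, h4⟩ := exists_uniformizer (hd.le) hm0
    obtain ⟨n, hn⟩ := h4 (Ideal.span {t}) (by rwa [Ne, Ideal.span_singleton_eq_bot])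
    have hπ0 : π ≠ 0 := by
      rintro rfl
      exact h3 (Ideal.zero_mem _)
    have hπ : Prime π := by
      rw [← Ideal.span_singleton_prime hπ0, ← h1]
      infer_instance
    have hn1 : 1 ≤ n := by
      by_contra h
      obtain rfl : n = 0 := by omega
      rw [pow_zero, Ideal.one_eq_top] at hn
      exact hJt hn
    refine ⟨1, 1, fun _ => π, le_rfl, le_rfl, hd, ?_, ?_⟩
    · rw [Set.range_const, h1]
    · rw [hn, Ideal.span_singleton_pow, radical_span_pow hπ hn1]
      simp
  · obtain ⟨f, g, hfg, a, b, u, hu⟩ := snc2_of_isSNCElt hd hs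
    have hJ' : Ideal.span {t} = Ideal.span {f ^ a * g ^ b} := by
      rw [hu, mul_assoc]
      exact Ideal.span_singleton_mul_left_unit u.isUnit _
    have hrange : ∀ f g : A, Set.range ![f, g] = {f, g} := by
      intro f g
      ext z
      simp only [Set.mem_range, Fin.exists_fin_two, Set.mem_insert_iff, Set.mem_singleton_iff]
      exact or_congr eq_comm eq_comm
    have hpf := prime_left hd hfg
    have hpg := prime_left hd (comm_span hfg)
    rcases Nat.eq_zero_or_pos a with ha | ha <;> rcases Nat.eq_zero_or_pos b with hb | hb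
    · exfalso
      rw [ha, hb, pow_zero, pow_zero, one_mul, Ideal.span_singleton_one] at hJ'
      exact hJt hJ'
    · refine ⟨2, 1, ![g, f], le_rfl, by norm_num, hd, ?_, ?_⟩
      · rw [hrange]
        exact comm_span hfg
      · rw [hJ', ha, pow_zero, one_mul, radical_span_pow hpg hb, Fin.prod_univ_two]
        simp
    · refine ⟨2, 1, ![f, g], le_rfl, by norm_num, hd, ?_, ?_⟩
      · rw [hrange]
        exact hfg
      · rw [hJ', hb, pow_zero, mul_one, radical_span_pow hpf ha, Fin.prod_univ_two]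
        simp
    · refine ⟨2, 2, ![f, g], by norm_num, le_rfl, hd, ?_, ?_⟩
      · rw [hrange]
        exact hfg
      · have hndvd : ¬ f ∣ g := (Groth.Agent.Dix.RegTwoDim.prime_and_not_dvd hd f g hfg.symm).2
        rw [hJ', radical_span_mul hpf hpg hndvd ha hb, Fin.prod_univ_two]
        simp

end K346.GoodRing
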