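import Groth.Agent.Resolve.K346.OverDed
import Groth.Agent.Resolve.K346.GoodRing
import Groth.Agent.Sga7.H150.Chain

/-!
# Finite normalization of curves under quadratic transforms (helper346)

`quad`: if all curves in `V(J)` through the closed point of a two-dimensional regular local ring `A` have finite
normalization, so have all curves in `V(J B)`, for `B` a quadratic transform of `A`.
-/

set_option autoImplicit false
universe u

open IsLocalRing

namespace K346.N1Step

open Groth.Agent Groth.Agent.Resolve.K375.GChain Groth.Agent.Sga7.H150.Quad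

theorem isN1_of_equiv {R S : Type u} [CommRing R] [IsDomain R] [CommRing S] [IsDomain S] (e : R ≃+* S)
    (h : CAlg.IsN1 R) : CAlg.IsN1 S :=
  Groth.Agent.Sga7.H150.Chain.finite_integralClosure e h

theorem isN1_of_regular (R : Type u) [CommRing R] [IsRegularLocalRing R] : ∃ _ : IsDomain R, CAlg.IsN1 R := by
  obtain ⟨hdom, hufd⟩ := Groth.Agent.S2821.result R
  refine ⟨hdom, ?_⟩
  change Module.Finite R (integralClosure R (FractionRing R))
  rw [IsIntegrallyClosed.integralClosure_eq_bot R (FractionRing R)]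
  infer_instance

theorem isN1_of_regular' (R : Type u) [CommRing R] [IsDomain R] (h : IsRegularLocalRing R) : CAlg.IsN1 R := by
  obtain ⟨_, h⟩ := isN1_of_regular R
  exact h

/-- The residue rings at a prime whose trace is principal are birational. -/
theorem bir_quot {A B : Type u} [CommRing A] [IsDomain A] [IsNoetherianRing A] [CommRing B] [IsDomain B]
    (φ : A →+* B) (hφ : Bir φ) (q : Ideal B) [hq : q.IsPrime] (hp : (q.comap φ).IsPrincipal) :
    Bir (Ideal.quotientMap q φ (le_refl (q.comap φ))) := by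
  refine ⟨Ideal.quotientMap_injective, fun b => ?_⟩
  obtain ⟨b, rfl⟩ := Ideal.Quotient.mk_surjective b
  obtain ⟨s0, t0, hs0, hst⟩ := hφ.2 b
  have hs00 : s0 ≠ 0 := fun h => hs0 (by rw [h, map_zero])
  have hpp : (q.comap φ).IsPrime := Ideal.IsPrime.comap φ
  -- comparison of `s0` and `t0` in the local ring at the prime
  have key : ∃ s c : A, s ∉ q.comap φ ∧ (s * t0 = c * s0 ∨ s * s0 = c * t0) := by
    obtain ⟨π, hπ⟩ := hp
    rw [← Ideal.span] at hπ
    by_cases hπ0 : π = 0
    · refine ⟨s0, t0, ?_, Or.inl (mul_comm _ _)⟩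
      rw [hπ, hπ0, Set.singleton_zero, Ideal.span_zero, Ideal.mem_bot]
      exact hs00
    · have hπp : Prime π := by
        rw [← Ideal.span_singleton_prime hπ0, ← hπ]
        exact hpp
      by_cases ht00 : t0 = 0
      · refine ⟨1, 0, fun h => hpp.ne_top ((Ideal.eq_top_iff_one _).2 h), Or.inl ?_⟩
        rw [ht00, mul_zero, zero_mul]
      obtain ⟨a, s1, hs1, hs⟩ := WfDvdMonoid.max_power_factor hs00 hπp.irreducible
      obtain ⟨b, t1, ht1, ht⟩ := WfDvdMonoid.max_power_factor ht00 hπp.irreducible
      rcases le_total a b with hab | hab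
      · obtain ⟨k, rfl⟩ := Nat.exists_eq_add_of_le hab
        refine ⟨s1, π ^ k * t1, ?_, Or.inl ?_⟩
        · rwa [hπ, Ideal.mem_span_singleton]
        · rw [hs, ht]; ring
      · obtain ⟨k, rfl⟩ := Nat.exists_eq_add_of_le hab
        refine ⟨t1, π ^ k * s1, ?_, Or.inr ?_⟩
        · rwa [hπ, Ideal.mem_span_singleton]
        · rw [hs, ht]; ring
  obtain ⟨s, c, hs, h1 | h1⟩ := key
  · refine ⟨Ideal.Quotient.mk _ s, Ideal.Quotient.mk _ c, ?_, ?_⟩
    · rw [Ideal.quotientMap_mk, Ne, Ideal.Quotient.eq_zero_iff_mem]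
      exact hs
    · rw [Ideal.quotientMap_mk, Ideal.quotientMap_mk, ← map_mul]
      congr 1
      apply mul_left_cancel₀ hs0
      have h2 := congrArg φ h1
      rw [map_mul, map_mul, ← hst] at h2
      linear_combination h2
  · have h2 := congrArg φ h1
    rw [map_mul, map_mul, ← hst] at h2
    have h3 : φ s = φ c * b := by
      apply mul_left_cancel₀ hs0
      linear_combination h2
    refine ⟨Ideal.Quotient.mk _ c, Ideal.Quotient.mk _ s, ?_, ?_⟩
    · rw [Ideal.quotientMap_mk, Ne, Ideal.Quotient.eq_zero_iff_mem]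
      intro h
      apply hs
      rw [Ideal.mem_comap, h3]
      exact Ideal.mul_mem_right _ _ h
    · rw [Ideal.quotientMap_mk, Ideal.quotientMap_mk, ← map_mul, ← h3]

/-- Primes of a regular local ring of dimension at most two which contain an element of `𝔪 ∖ 𝔪²` have regular
quotient. -/
theorem isRegular_quotient_of_mem {B : Type u} [CommRing B] [IsRegularLocalRing B] (hB : ringKrullDim B ≤ 2)
    (x : B) (hx : x ∈ maximalIdeal B) (hx2 : x ∉ maximalIdeal B ^ 2) (q : Ideal B) [hq : q.IsPrime] (hxq : x ∈ q) :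
    IsRegularLocalRing (B ⧸ q) := by
  have hdom := CalgA.RegBasic.isDomain B
  obtain ⟨h1, h2⟩ := CalgA.RegBasic.quotient_of_notMem_sq x hx hx2
  by_cases hqm : q = maximalIdeal B
  · subst hqm
    let _ : Field (B ⧸ maximalIdeal B) := Ideal.Quotient.field _
    infer_instance
  · -- `q = (x)`
    have hx0 : x ≠ 0 := by
      rintro rfl
      exact hx2 (Ideal.zero_mem _)
    have hxp : Prime x := Groth.Agent.Dix.RegTwoDim.prime_of_notMem_sq x hx hx2
    obtain ⟨π, hπ⟩ := Groth.Agent.Dix.RegTwoDim.isPrincipal_of_ne hB q hqm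
    rw [← Ideal.span] at hπ
    rw [hπ, Ideal.mem_span_singleton] at hxq
    obtain ⟨c, hc⟩ := hxq
    have hπu : ¬ IsUnit π := by
      intro h
      apply hq.ne_top
      rw [hπ]
      exact Ideal.span_singleton_eq_top.2 h
    have hcu : IsUnit c := (hxp.irreducible.isUnit_or_isUnit hc).resolve_left hπu
    have e : q = Ideal.span {x} := by
      rw [hπ, hc]
      exact (Ideal.span_singleton_mul_right_unit hcu π).symm
    rw [e]
    exact h1

/-- All curves in `V(J)` through the closed point have finite normalization. -/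
def AllN1 (A : Type u) [CommRing A] (J : Ideal A) : Prop :=
  ∀ (p : Ideal A) [p.IsPrime], J ≤ p → CAlg.IsN1 (A ⧸ p)

theorem AllN1.map_equiv {A B : Type u} [CommRing A] [CommRing B] (e : A ≃+* B) {J : Ideal A} (h : AllN1 A J) :
    AllN1 B (J.map (e : A →+* B)) := by
  intro q hq hJq
  have hp : (q.comap (e : A →+* B)).IsPrime := Ideal.IsPrime.comap _
  have h1 := h (q.comap (e : A →+* B)) (Ideal.map_le_iff_le_comap.1 hJq)
  have h2 : (q.comap (e : A →+* B)).map (e : A →+* B) = q := Ideal.map_comap_of_surjective _ e.surjective q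
  exact isN1_of_equiv (Ideal.quotientEquiv _ q e h2.symm) h1

/-- **Persistence** of finite normalization under quadratic transforms. -/
theorem AllN1.quad {A B : Type u} [CommRing A] [IsRegularLocalRing A] [CommRing B] [IsRegularLocalRing B]
    (hA : ringKrullDim A = 2) (hB : ringKrullDim B ≤ 2) (φ : A →+* B) (hφ : Bir φ)
    (x : B) (hx : (maximalIdeal A).map φ = Ideal.span {x}) (hxm : x ∈ maximalIdeal B)
    (hx2 : x ∉ maximalIdeal B ^ 2) {J : Ideal A} (hJ : J ≠ ⊥) (h : AllN1 A J) : AllN1 B (J.map φ) := by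
  intro q hq hJq
  have hdA := CalgA.RegBasic.isDomain A
  have hdB := CalgA.RegBasic.isDomain B
  have hpp : (q.comap φ).IsPrime := Ideal.IsPrime.comap φ
  have hJp : J ≤ q.comap φ := Ideal.map_le_iff_le_comap.1 hJq
  have hp0 : q.comap φ ≠ ⊥ := fun h => hJ (le_bot_iff.1 (h ▸ hJp))
  by_cases hpm : q.comap φ = maximalIdeal A
  · have h1 : x ∈ q := by
      have h2 : (maximalIdeal A).map φ ≤ q := by
        rw [Ideal.map_le_iff_le_comap, hpm]
      rw [hx] at h2
      exact h2 (Ideal.mem_span_singleton_self _)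
    exact isN1_of_regular' _ (isRegular_quotient_of_mem hB x hxm hx2 q h1)
  · have hprin := Groth.Agent.Dix.RegTwoDim.isPrincipal_of_ne hA.le (q.comap φ) hpm
    have hbir := bir_quot φ hφ q hprin
    have hdim : Ring.KrullDimLE 1 (A ⧸ q.comap φ) := by
      refine Ring.KrullDimLE.mk₁' fun P hP hPp => ?_
      have hPc : (P.comap (Ideal.Quotient.mk (q.comap φ))).IsPrime := Ideal.IsPrime.comap _
      have hmap : (P.comap (Ideal.Quotient.mk (q.comap φ))).map (Ideal.Quotient.mk (q.comap φ)) = P :=
        Ideal.map_comap_of_surjective _ Ideal.Quotient.mk_surjective P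
      have hle : q.comap φ ≤ P.comap (Ideal.Quotient.mk (q.comap φ)) := by
        intro z hz
        rw [Ideal.mem_comap, Ideal.Quotient.eq_zero_iff_mem.2 hz]
        exact P.zero_mem
      have hmax : P.comap (Ideal.Quotient.mk (q.comap φ)) = maximalIdeal A := by
        by_contra hne
        have h1 := eq_of_le hA hp0 hle hne
        apply hP
        rw [← hmap, ← h1, Ideal.map_quotient_self]
      have hPm : (P.comap (Ideal.Quotient.mk (q.comap φ))).IsMaximal := by
        rw [hmax]; infer_instance
      rw [← hmap]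
      rcases Ideal.map_eq_top_or_isMaximal_of_surjective (Ideal.Quotient.mk (q.comap φ)) Ideal.Quotient.mk_surjective hPm with h1 | h1
      · rw [hmap] at h1
        exact absurd h1 hPp.ne_top
      · exact h1
    exact OverDed.isN1_of_bir _ hbir (h (q.comap φ) hJp)

end K346.N1Step
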