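import Groth.Agent.Divis.StalkPrime
import Groth.Agent.Divis.CartierStalk
import Groth.Agent.Ega1.ReducedSub
import Groth.Agent.Resolve.K373.NormFin
import Groth.Agent.Resolve.K375.PtSeq
import Groth.Agent.Resolve.K346.N1Step
import Groth.Agent.Sga7.H543.SecStalk

/-!
# The integral closed subscheme with a given generic point (helper346)

* `clo ξ`: the ideal sheaf of the reduced closed subscheme on the closure of `ξ`.
* `stalkIdeal_clo`: its stalk at a specialization is the corresponding prime.
* `dim_clo`: its dimension is one for a non-closed point of codimension one on a surface.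
* `isN1_quotient`, `exists_regular_nhds`: consequences of the finiteness of the normalization.
-/

set_option autoImplicit false
universe u

open CategoryTheory CategoryTheory.Limits AlgebraicGeometry TopologicalSpace IsLocalRing

namespace K346.CloPt

open Groth.Agent Groth.Agent.Divis.CartierBasic Groth.Agent.Divis.CartierStalk Groth.Agent.CycB.LocQuot
  Groth.Agent.Divis.StalkPrime

variable {X : Scheme.{u}}

/-- The ideal of the reduced closed subscheme on the closure of a point. -/
noncomputable def clo (ξ : X) : X.IdealSheafData :=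
  Scheme.IdealSheafData.vanishingIdeal ⟨closure {ξ}, isClosed_closure⟩

instance isReduced_clo (ξ : X) : IsReduced (clo ξ).subscheme :=
  Ega1.ReducedSub.isReduced_subscheme_vanishingIdeal _

theorem support_clo (ξ : X) : ((clo ξ).support : Set X) = closure {ξ} := by
  have := Scheme.IdealSheafData.coe_support_vanishingIdeal (X := X) ⟨closure {ξ}, isClosed_closure⟩
  exact this

theorem mem_support_clo {ξ y : X} : y ∈ (clo ξ).support ↔ ξ ⤳ y := by
  rw [specializes_iff_mem_closure, ← support_clo]
  rfl

theorem range_clo (ξ : X) : Set.range (clo ξ).subschemeι = closure {ξ} := by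
  rw [Scheme.IdealSheafData.range_subschemeι, support_clo]

instance irreducible_clo (ξ : X) : IrreducibleSpace (clo ξ).subscheme := by
  have h1 : ξ ∈ Set.range (clo ξ).subschemeι := by
    rw [range_clo]
    exact subset_closure rfl
  obtain ⟨c0, hc0⟩ := h1
  have h2 : closure ({c0} : Set (clo ξ).subscheme) = Set.univ := by
    rw [Set.eq_univ_iff_forall]
    intro c
    rw [← specializes_iff_mem_closure]
    rw [← (clo ξ).subschemeι.isClosedEmbedding.isEmbedding.isInducing.specializes_iff, hc0,
      specializes_iff_mem_closure, ← range_clo]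
    exact ⟨c, rfl⟩
  have h3 := (isIrreducible_singleton (x := c0)).closure
  rw [h2] at h3
  exact { isPreirreducible_univ := h3.2, toNonempty := ⟨c0⟩ }

instance isIntegral_clo (ξ : X) : IsIntegral (clo ξ).subscheme :=
  isIntegral_of_irreducibleSpace_of_isReduced _

theorem subschemeι_genericPoint (ξ : X) : (clo ξ).subschemeι (genericPoint (clo ξ).subscheme) = ξ := by
  have h1 : ξ ∈ Set.range (clo ξ).subschemeι := by
    rw [range_clo]
    exact subset_closure rfl
  obtain ⟨c, hc⟩ := h1
  have h2 : (clo ξ).subschemeι (genericPoint (clo ξ).subscheme) ⤳ ξ := by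
    have h0 := (genericPoint_specializes c).map (clo ξ).subschemeι.continuous
    rwa [hc] at h0
  have h3 : ξ ⤳ (clo ξ).subschemeι (genericPoint (clo ξ).subscheme) := by
    rw [specializes_iff_mem_closure, ← range_clo]
    exact ⟨_, rfl⟩
  exact (h2.antisymm h3).eq

theorem stalkIdeal_clo {ξ y : X} (h : ξ ⤳ y) : stalkIdeal (clo ξ) y = (primeOf h).asIdeal := by
  have h1 : y ∈ (clo ξ).support := mem_support_clo.2 h
  have h2 := ptOf_stalkIdeal (clo ξ) h1
  rw [subschemeι_genericPoint] at h2
  have h3 : (⟨stalkIdeal (clo ξ) y, isPrime_stalkIdeal (clo ξ) h1⟩ : PrimeSpectrum _) = primeOf h := by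
    apply ptOf_injective
    rw [h2, ptOf_primeOf]
  exact congrArg PrimeSpectrum.asIdeal h3

theorem stalkIdeal_clo_self (ξ : X) : stalkIdeal (clo ξ) ξ = maximalIdeal (X.presheaf.stalk ξ) := by
  rw [stalkIdeal_clo (specializes_refl ξ), primeOf_refl]
  rfl

theorem stalkIdeal_clo_of_not {ξ y : X} (h : ¬ ξ ⤳ y) : stalkIdeal (clo ξ) y = ⊤ := by
  rw [← notMem_support_iff_stalkIdeal_eq_top, mem_support_clo]
  exact h

theorem stalkIdeal_clo_ptOf {y : X} (p : Ideal (X.presheaf.stalk y)) [hp : p.IsPrime] :
    stalkIdeal (clo (ptOf ⟨p, hp⟩)) y = p := by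
  rw [stalkIdeal_clo (ptOf_specializes ⟨p, hp⟩), primeOf_ptOf]

/-! ### dimension -/

theorem topologicalKrullDim_le_of_stalk (Z : Scheme.{u}) (n : ℕ)
    (h : ∀ z : Z, ringKrullDim (Z.presheaf.stalk z) ≤ n) : topologicalKrullDim Z ≤ n := by
  rw [Groth.Agent.CurvesB.DimPts.krullDim_eq]
  rcases isEmpty_or_nonempty Z with hZ | hZ
  · rw [Order.krullDim_eq_bot]
    exact bot_le
  · rw [Order.krullDim_eq_iSup_coheight_of_nonempty]
    have h1 : (⨆ z : Z, Order.coheight z) ≤ (n : ℕ∞) := by
      refine iSup_le fun z => ?_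
      have := h z
      rw [ringKrullDim_stalk_eq_coheight] at this
      exact_mod_cast this
    exact_mod_cast h1

theorem le_one_of_add_one_le {d : WithBot ℕ∞} (h : d + 1 ≤ 2) : d ≤ 1 := by
  induction d using WithBot.recBotCoe with
  | bot => exact bot_le
  | coe d =>
    have h1 : ((d + 1 : ℕ∞) : WithBot ℕ∞) ≤ ((1 + 1 : ℕ∞) : WithBot ℕ∞) := by
      rw [one_add_one_eq_two]
      exact h
    have h2 : d + 1 ≤ 1 + 1 := WithBot.coe_le_coe.1 h1
    have h3 : d ≤ 1 := (ENat.add_le_add_iff_right (by decide)).1 h2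
    exact WithBot.coe_le_coe.2 h3

theorem dim_clo [IsIntegral X] [IsLocallyNoetherian X] (hX : ∀ x : X, ringKrullDim (X.presheaf.stalk x) ≤ 2)
    {ξ y : X} (hξ : ξ ≠ genericPoint X) (h : ξ ⤳ y) (hne : ξ ≠ y) :
    topologicalKrullDim (clo ξ).subscheme = 1 := by
  apply le_antisymm
  · refine topologicalKrullDim_le_of_stalk _ 1 fun c => ?_
    have hc : ξ ⤳ (clo ξ).subschemeι c := by
      rw [specializes_iff_mem_closure, ← range_clo]
      exact ⟨c, rfl⟩
    rw [← ringKrullDim_eq_of_ringEquiv (stalkQuotEquiv (clo ξ) c), stalkIdeal_clo hc]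
    have hp0 : (primeOf hc).asIdeal ≠ ⊥ := by
      intro h0
      apply hξ
      have h1 : primeOf hc = primeOf (genericPoint_specializes ((clo ξ).subschemeι c)) := by
        have h2 : (primeOf hc) ≤ primeOf (genericPoint_specializes ((clo ξ).subschemeι c)) := by
          rw [← PrimeSpectrum.asIdeal_le_asIdeal, h0]
          exact bot_le
        rw [primeOf_le_iff] at h2
        rw [primeOf_inj]
        exact (h2.antisymm (genericPoint_specializes _)).eq
      exact (primeOf_inj _ _).1 h1
    obtain ⟨r, hr, hr0⟩ := Submodule.exists_mem_ne_zero_of_ne_bot hp0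
    have h1 := ringKrullDim_quotient_succ_le_of_nonZeroDivisor (mem_nonZeroDivisors_of_ne_zero hr0)
    have h2 : ringKrullDim (X.presheaf.stalk ((clo ξ).subschemeι c) ⧸ (primeOf hc).asIdeal) ≤
        ringKrullDim (X.presheaf.stalk ((clo ξ).subschemeι c) ⧸ Ideal.span {r}) :=
      ringKrullDim_le_of_surjective (Ideal.Quotient.factor ((Ideal.span_singleton_le_iff_mem _).2 hr))
        (Ideal.Quotient.factor_surjective _)
    have h3 := (add_le_add_left h2 1).trans (h1.trans (hX _))
    exact le_one_of_add_one_le h3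
  · obtain ⟨c, hc⟩ : y ∈ Set.range (clo ξ).subschemeι := by
      rw [range_clo]
      exact specializes_iff_mem_closure.1 h
    have hcg : c ≠ genericPoint (clo ξ).subscheme := by
      rintro rfl
      rw [subschemeι_genericPoint] at hc
      exact hne hc
    exact (Resolve.K375.Geo.one_le_ringKrullDim hcg).trans (Resolve.K375.PtSeq.ringKrullDim_le _ c)

/-! ### finite normalization -/

theorem quasiCompact_gen (C : Scheme.{u}) [IsIntegral C] : QuasiCompact (C.fromSpecStalk (genericPoint C)) := by
  have : Finite (Spec (C.presheaf.stalk (genericPoint C))) := by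
    have h : IsField (C.presheaf.stalk (genericPoint C)) := Field.toIsField (C.functionField)
    let := h.toField
    exact inferInstanceAs (Finite (PrimeSpectrum (C.presheaf.stalk (genericPoint C))))
  exact ⟨fun U _ _ => Set.Finite.isCompact (Set.toFinite _)⟩

theorem isN1_stalk (C : Scheme.{u}) [IsIntegral C] [QuasiCompact (C.fromSpecStalk (genericPoint C))]
    [QuasiSeparated (C.fromSpecStalk (genericPoint C))] (h : IsFinite (Curv2.normalizationι C)) (c : C) :
    CAlg.IsN1 (C.presheaf.stalk c) := by
  obtain ⟨U, hU, hcU, -⟩ := exists_isAffineOpen_mem_and_subset (X := C) (x := c) (U := ⊤) trivial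
  have hne : Nonempty U := ⟨⟨c, hcU⟩⟩
  have h1 := K373.NormFin.isN1_of_isFinite C h U hU hne
  let _ := TopCat.Presheaf.algebra_section_stalk C.presheaf (⟨c, hcU⟩ : U)
  have hloc := hU.isLocalization_stalk ⟨c, hcU⟩
  exact CalgA.NagAss.isN1_localization (hU.primeIdealOf ⟨c, hcU⟩).asIdeal.primeCompl
    (Ideal.primeCompl_le_nonZeroDivisors _) _ h1

/-- The integral one-dimensional closed subschemes in the support of `I` have finite normalization. -/
def FinNorm (I : X.IdealSheafData) : Prop :=
  ∀ (J : X.IdealSheafData) [IsIntegral J.subscheme]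
    [QuasiCompact (J.subscheme.fromSpecStalk (genericPoint ↥J.subscheme))]
    [QuasiSeparated (J.subscheme.fromSpecStalk (genericPoint ↥J.subscheme))],
    (J.support : Set X) ⊆ I.support → topologicalKrullDim ↥J.subscheme = 1 →
      IsFinite (Curv2.normalizationι J.subscheme)

theorem support_clo_subset {I : X.IdealSheafData} {ξ : X} (h : ξ ∈ I.support) :
    ((clo ξ).support : Set X) ⊆ I.support := by
  rw [support_clo]
  exact closure_minimal (Set.singleton_subset_iff.2 h) I.support.isClosed

/-- All curves in `V(I)` through a point have finite normalization. -/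
theorem allN1 [IsIntegral X] [IsLocallyNoetherian X] (hX : ∀ x : X, ringKrullDim (X.presheaf.stalk x) ≤ 2)
    {I : X.IdealSheafData} (hI : FinNorm I) (x : X) (hI0 : stalkIdeal I x ≠ ⊥) :
    N1Step.AllN1 (X.presheaf.stalk x) (stalkIdeal I x) := by
  intro p hp hIp
  by_cases hpm : p = maximalIdeal (X.presheaf.stalk x)
  · subst hpm
    let _ : Field (X.presheaf.stalk x ⧸ maximalIdeal (X.presheaf.stalk x)) := Ideal.Quotient.field _
    have hreg : IsRegularLocalRing (X.presheaf.stalk x ⧸ maximalIdeal (X.presheaf.stalk x)) := inferInstance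
    exact N1Step.isN1_of_regular' _ hreg
  · have hsp : ptOf (⟨p, hp⟩ : PrimeSpectrum (X.presheaf.stalk x)) ⤳ x := ptOf_specializes _
    have hξI : ptOf (⟨p, hp⟩ : PrimeSpectrum (X.presheaf.stalk x)) ∈ I.support := by
      rw [ptOf, fromSpecStalk_mem_support_iff]
      exact hIp
    have hJ := stalkIdeal_clo_ptOf p
    have hne : ptOf (⟨p, hp⟩ : PrimeSpectrum (X.presheaf.stalk x)) ≠ x := by
      intro h
      apply hpm
      have h1 := ptOf_primeOf (specializes_refl x)
      have h2 : (⟨p, hp⟩ : PrimeSpectrum (X.presheaf.stalk x)) = primeOf (specializes_refl x) := by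
        apply ptOf_injective
        rw [h, h1]
      rw [primeOf_refl] at h2
      exact congrArg PrimeSpectrum.asIdeal h2
    have hgen : ptOf (⟨p, hp⟩ : PrimeSpectrum (X.presheaf.stalk x)) ≠ genericPoint X := by
      intro h
      apply hI0
      have h1 : (⟨p, hp⟩ : PrimeSpectrum (X.presheaf.stalk x)) ≤ ⊥ := by
        rw [← ptOf_specializes_iff, h]
        exact genericPoint_specializes _
      exact le_bot_iff.1 (hIp.trans h1)
    have hdim := dim_clo hX hgen hsp hne
    have hqc := quasiCompact_gen (clo (ptOf (⟨p, hp⟩ : PrimeSpectrum (X.presheaf.stalk x)))).subscheme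
    have hfin := hI (clo (ptOf (⟨p, hp⟩ : PrimeSpectrum (X.presheaf.stalk x)))) (support_clo_subset hξI) hdim
    obtain ⟨c, hc⟩ := exists_subscheme_apply_eq (clo (ptOf (⟨p, hp⟩ : PrimeSpectrum (X.presheaf.stalk x))))
      (mem_support_clo.2 hsp)
    have hN1 := isN1_stalk _ hfin c
    have key : ∀ (y : X) (_ : y = x) (q : Ideal (X.presheaf.stalk y)) [q.IsPrime]
        (_ : q = stalkIdeal (clo (ptOf (⟨p, hp⟩ : PrimeSpectrum (X.presheaf.stalk x)))) y)
        (_ : CAlg.IsN1 (X.presheaf.stalk y ⧸ q)), CAlg.IsN1 (X.presheaf.stalk x ⧸ p) := by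
      rintro y rfl q _ rfl h
      have h1 : ∀ (q' : Ideal (X.presheaf.stalk y)) [q'.IsPrime] (_ : q' = p)
        (_ : CAlg.IsN1 (X.presheaf.stalk y ⧸ q')), CAlg.IsN1 (X.presheaf.stalk y ⧸ p) := by
        rintro q' _ rfl h
        exact h
      exact h1 _ hJ h
    have hpr := isPrime_stalkIdeal (clo (ptOf (⟨p, hp⟩ : PrimeSpectrum (X.presheaf.stalk x))))
      (subschemeι_mem_support _ c)
    exact key _ hc _ rfl (N1Step.isN1_of_equiv (stalkQuotEquiv _ c).symm hN1)

/-- Near a point of codimension one the integral closed subscheme is generated by a regular parameter. -/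
def Reg1 (M : X.IdealSheafData) (y : X) : Prop :=
  (∃ t ∈ maximalIdeal (X.presheaf.stalk y), t ∉ maximalIdeal (X.presheaf.stalk y) ^ 2 ∧
    stalkIdeal M y = Ideal.span {t}) ∨ stalkIdeal M y = ⊤

theorem reg1_of_regular [IsIntegral X] [IsLocallyNoetherian X]
    (hX : ∀ x : X, ringKrullDim (X.presheaf.stalk x) ≤ 2) {ξ y : X} (hξ : ringKrullDim (X.presheaf.stalk ξ) = 1)
    (hξg : ξ ≠ genericPoint X) (h : ξ ⤳ y) (hy : IsRegularLocalRing (X.presheaf.stalk y))
    (hr : IsRegularLocalRing (X.presheaf.stalk y ⧸ stalkIdeal (clo ξ) y)) : Reg1 (clo ξ) y := by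
  rw [stalkIdeal_clo h] at hr
  obtain ⟨t, ht, ht2, he⟩ := Groth.Agent.Sga7.H592.SncAlg.exists_gen (primeOf h).asIdeal (by
    have h1 := height_eq (primeOf h)
    rw [ptOf_primeOf, hξ] at h1
    exact (WithBot.coe_le_coe.1 h1.symm.le)) (by
    intro h0
    apply hξg
    have h1 : primeOf h ≤ ⊥ := by
      rw [← PrimeSpectrum.asIdeal_le_asIdeal, h0]
      exact bot_le
    have h2 : primeOf h ≤ primeOf (genericPoint_specializes y) := h1.trans bot_le
    rw [primeOf_le_iff] at h2
    exact (h2.antisymm (genericPoint_specializes _)).eq)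
  exact Or.inl ⟨t, ht, ht2, by rw [stalkIdeal_clo h, he]⟩

/-- The closure of a point of codimension one is generated by regular parameters near the point. -/
theorem exists_reg1_nhds [IsIntegral X] [IsLocallyNoetherian X]
    (hX : ∀ x : X, ringKrullDim (X.presheaf.stalk x) ≤ 2) (hreg : ∀ x : X, IsRegularLocalRing (X.presheaf.stalk x))
    {I : X.IdealSheafData} (hI : FinNorm I) {ξ : X} (hξ : ringKrullDim (X.presheaf.stalk ξ) = 1)
    (hξI : ξ ∈ I.support) : ∃ V : X.Opens, ξ ∈ V ∧ ∀ y ∈ V, Reg1 (clo ξ) y := by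
  have hξg : ξ ≠ genericPoint X := by
    rintro rfl
    rw [ringKrullDim_stalk_eq_coheight] at hξ
    have h1 : Order.coheight (genericPoint X) = 0 := by
      rw [Order.coheight_eq_zero]
      intro y hy
      exact (show y ≤ genericPoint X from genericPoint_specializes y)
    rw [h1] at hξ
    exact absurd hξ (by decide)
  have hself : Reg1 (clo ξ) ξ := by
    have := hreg ξ
    refine reg1_of_regular hX hξ hξg (specializes_refl ξ) (hreg ξ) ?_
    rw [stalkIdeal_clo_self]
    let _ : Field (X.presheaf.stalk ξ ⧸ maximalIdeal (X.presheaf.stalk ξ)) := Ideal.Quotient.field _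
    infer_instance
  by_cases hcl : ∃ y, ξ ⤳ y ∧ ξ ≠ y
  · obtain ⟨y0, h0, hne0⟩ := hcl
    have hdim := dim_clo hX hξg h0 hne0
    have hqc := quasiCompact_gen (clo ξ).subscheme
    have hfin := hI (clo ξ) (support_clo_subset hξI) hdim
    obtain ⟨V, hVne, hV⟩ := K373.NormFin.exists_isIso (clo ξ).subscheme hfin
    have hregC : ∀ c ∈ V, IsRegularLocalRing ((clo ξ).subscheme.presheaf.stalk c) := by
      intro c hc
      have hln : IsLocallyNoetherian (clo ξ).subscheme :=
        LocallyOfFiniteType.isLocallyNoetherian (clo ξ).subschemeι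
      obtain ⟨w, hw⟩ := (Curv2.normalizationι (clo ξ).subscheme ∣_ V).surjective ⟨c, hc⟩
      have hw' : Curv2.normalizationι (clo ξ).subscheme w.1 = c := by
        have := congrArg Subtype.val hw
        rwa [morphismRestrict_base_coe] at this
      have h1 := K373.NormFin.isRegular_of_dim_le_one (clo ξ).subscheme hfin hdim.le w.1
      have h2 : IsIso ((Curv2.normalizationι (clo ξ).subscheme).stalkMap w.1) :=
        Groth.Agent.Dix.BirIso.isIso_stalkMap _ V hV w.1 (by rw [hw']; exact hc)
      have h3 := IsRegularLocalRing.of_ringEquiv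
        (asIso ((Curv2.normalizationι (clo ξ).subscheme).stalkMap w.1)).commRingCatIsoToRingEquiv.symm
      rw [hw'] at h3
      exact h3
    let V' : X.Opens := ⟨((clo ξ).subschemeι '' (V : Set (clo ξ).subscheme)ᶜ)ᶜ,
      ((clo ξ).subschemeι.isClosedEmbedding.isClosedMap _ V.2.isClosed_compl).isOpen_compl⟩
    refine ⟨V', ?_, ?_⟩
    · rintro ⟨c, hc, hcξ⟩
      apply hc
      have h1 : c = genericPoint (clo ξ).subscheme := by
        apply (clo ξ).subschemeι.isClosedEmbedding.injective
        rw [hcξ, subschemeι_genericPoint]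
      rw [h1]
      exact ((genericPoint_spec (clo ξ).subscheme).mem_open_set_iff V.isOpen).mpr (by simpa using hVne)
    · intro y hy
      by_cases h : ξ ⤳ y
      · obtain ⟨c, hc⟩ := exists_subscheme_apply_eq (clo ξ) (mem_support_clo.2 h)
        subst hc
        have hcV : c ∈ V := by
          by_contra hcV
          exact hy ⟨c, hcV, rfl⟩
        have := hregC c hcV
        exact reg1_of_regular hX hξ hξg h (hreg _) (IsRegularLocalRing.of_ringEquiv (stalkQuotEquiv (clo ξ) c).symm)
      · exact Or.inr (stalkIdeal_clo_of_not h)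
  · refine ⟨⊤, trivial, fun y _ => ?_⟩
    by_cases h : ξ ⤳ y
    · by_cases h' : ξ = y
      · rw [← h']
        exact hself
      · exact absurd ⟨y, h, h'⟩ hcl
    · exact Or.inr (stalkIdeal_clo_of_not h)

end K346.CloPt
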