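import Groth.Agent.Resolve.K375.GChain
import Groth.Agent.CalgA.NagAss
import Mathlib.RingTheory.DedekindDomain.Ideal.Basic
import Mathlib.RingTheory.IntegralClosure.IntegrallyClosed

/-!
# Overrings of one-dimensional domains with finite normalization (helper346)

* `mem_of_isIntegral`: overrings of a Dedekind domain (inside the field of fractions) are integrally closed.
* `isN1_of_bir`: a birational extension of a one-dimensional Noetherian domain with finite normalization has finite
  normalization.
-/

set_option autoImplicit false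
universe u

open IsLocalRing nonZeroDivisors

namespace K346.OverDed

open Groth.Agent Groth.Agent.Resolve.K375.GChain

/-- The fractional ideal `(1, z)` of a Dedekind domain is invertible. -/
theorem exists_bezout {N K : Type*} [CommRing N] [IsDedekindDomain N] [Field K] [Algebra N K] [IsFractionRing N K]
    (z : K) : ∃ a a' b b' : N, algebraMap N K a * z = algebraMap N K b ∧ algebraMap N K a' * z = algebraMap N K b' ∧
      a + b' = 1 := by
  let I : FractionalIdeal N⁰ K := FractionalIdeal.spanSingleton N⁰ 1 + FractionalIdeal.spanSingleton N⁰ z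
  have h1I : (1 : K) ∈ I := by
    rw [FractionalIdeal.mem_add]
    exact ⟨1, FractionalIdeal.mem_spanSingleton_self _ _, 0, FractionalIdeal.zero_mem _, add_zero 1⟩
  have hzI : z ∈ I := by
    rw [FractionalIdeal.mem_add]
    exact ⟨0, FractionalIdeal.zero_mem _, z, FractionalIdeal.mem_spanSingleton_self _ _, zero_add z⟩
  have hI : I ≠ 0 := by
    intro h
    rw [h, FractionalIdeal.mem_zero_iff] at h1I
    exact one_ne_zero h1I
  have h1 : I * I⁻¹ = 1 := mul_inv_cancel₀ hI
  have h2 : (1 : K) ∈ I * I⁻¹ := by
    rw [h1]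
    exact FractionalIdeal.one_mem_one N⁰
  rw [add_mul, FractionalIdeal.mem_add] at h2
  obtain ⟨x, hx, y, hy, hxy⟩ := h2
  rw [FractionalIdeal.mem_singleton_mul] at hx hy
  obtain ⟨x', hx', rfl⟩ := hx
  obtain ⟨y', hy', rfl⟩ := hy
  rw [FractionalIdeal.mem_inv_iff hI] at hx' hy'
  have e1 := hx' 1 h1I
  have e2 := hx' z hzI
  have e3 := hy' 1 h1I
  have e4 := hy' z hzI
  rw [FractionalIdeal.mem_one_iff] at e1 e2 e3 e4
  obtain ⟨a, ha⟩ := e1
  obtain ⟨b, hb⟩ := e2
  obtain ⟨a', ha'⟩ := e3
  obtain ⟨b', hb'⟩ := e4
  rw [mul_one] at ha ha'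
  refine ⟨a, a', b, b', ?_, ?_, ?_⟩
  · rw [ha, hb]
  · rw [ha', hb']
  · apply IsFractionRing.injective N K
    rw [map_add, map_one, ha, hb', ← hxy]
    ring

/-- Overrings of a Dedekind domain are integrally closed. -/
theorem mem_of_isIntegral {N K : Type*} [CommRing N] [IsDedekindDomain N] [Field K] [Algebra N K]
    [IsFractionRing N K] (S : Subring K) (hS : ∀ n : N, algebraMap N K n ∈ S) (z : K) (hz : IsIntegral S z) :
    z ∈ S := by
  obtain ⟨a, a', b, b', h1, h2, h3⟩ := exists_bezout (N := N) z
  -- the ideal of denominators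
  let 𝔞 : Ideal S :=
    { carrier := {s | (s : K) * z ∈ S}
      zero_mem' := by
        change ((0 : S) : K) * z ∈ S
        rw [ZeroMemClass.coe_zero, zero_mul]
        exact S.zero_mem
      add_mem' := fun {x y} hx hy => by
        change ((x + y : S) : K) * z ∈ S
        rw [Subring.coe_add, add_mul]
        exact S.add_mem hx hy
      smul_mem' := fun c x hx => by
        change ((c * x : S) : K) * z ∈ S
        rw [Subring.coe_mul, mul_assoc]
        exact S.mul_mem c.2 hx }
  have hmem : ∀ s : S, s ∈ 𝔞 ↔ (s : K) * z ∈ S := fun s => Iff.rfl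
  let A : S := ⟨algebraMap N K a, hS a⟩
  let A' : S := ⟨algebraMap N K a', hS a'⟩
  let B' : S := ⟨algebraMap N K b', hS b'⟩
  have hA : A ∈ 𝔞 := by
    rw [hmem]
    change algebraMap N K a * z ∈ S
    rw [h1]
    exact hS b
  have hA' : A' ∈ 𝔞 := by
    rw [hmem]
    change algebraMap N K a' * z ∈ S
    rw [h2]
    exact hS b'
  have hAB : A + B' = 1 := by
    apply Subtype.ext
    change algebraMap N K a + algebraMap N K b' = 1
    rw [← map_add, h3, map_one]
  obtain ⟨p, hp, hpz⟩ := hz
  -- `B' ^ n ∈ 𝔞`
  have hB : B' ^ p.natDegree ∈ 𝔞 := by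
    have e1 : (B' ^ p.natDegree : S) = -∑ i ∈ Finset.range p.natDegree,
        p.coeff i * (B' ^ i * A' ^ (p.natDegree - i)) := by
      apply Subtype.ext
      rw [Polynomial.eval₂_eq_sum_range, Finset.sum_range_succ, hp.coeff_natDegree, map_one, one_mul] at hpz
      rw [Subring.coe_neg, AddSubmonoidClass.coe_finsetSum, Subring.coe_pow]
      change (algebraMap N K b') ^ p.natDegree = _
      have e2 : (algebraMap N K b') ^ p.natDegree = (algebraMap N K a') ^ p.natDegree * z ^ p.natDegree := by
        rw [← h2, mul_pow]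
      rw [e2, eq_neg_of_add_eq_zero_right hpz, mul_neg, Finset.mul_sum]
      congr 1
      refine Finset.sum_congr rfl fun i hi => ?_
      rw [Finset.mem_range] at hi
      rw [Subring.coe_mul, Subring.coe_mul, Subring.coe_pow, Subring.coe_pow]
      change (algebraMap N K a') ^ p.natDegree * ((p.coeff i : K) * z ^ i) =
        (p.coeff i : K) * ((algebraMap N K b') ^ i * (algebraMap N K a') ^ (p.natDegree - i))
      rw [← h2, mul_pow]
      have e3 : (algebraMap N K a') ^ p.natDegree =
          (algebraMap N K a') ^ i * (algebraMap N K a') ^ (p.natDegree - i) := by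
        rw [← pow_add]
        congr 1
        omega
      rw [e3]
      ring
    rw [e1]
    refine neg_mem (Ideal.sum_mem _ fun i hi => ?_)
    rw [Finset.mem_range] at hi
    refine Ideal.mul_mem_left _ _ (Ideal.mul_mem_left _ _ ?_)
    exact Ideal.pow_mem_of_mem _ hA' _ (by omega)
  have h1 : (1 : S) ∈ 𝔞 := by
    have e1 : Ideal.Quotient.mk 𝔞 B' = 1 := by
      rw [← map_one (Ideal.Quotient.mk 𝔞), ← hAB, map_add, Ideal.Quotient.eq_zero_iff_mem.2 hA, zero_add]
    have e2 : Ideal.Quotient.mk 𝔞 (B' ^ p.natDegree) = 1 := by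
      rw [map_pow, e1, one_pow]
    rw [Ideal.Quotient.eq_zero_iff_mem.2 hB] at e2
    rw [← Ideal.Quotient.eq_zero_iff_mem, map_one, ← e2]
  rw [hmem] at h1
  simpa using h1

/-- A birational extension of a one-dimensional Noetherian domain with finite normalization has finite
normalization. -/
theorem isN1_of_bir {D E : Type u} [CommRing D] [IsDomain D] [IsNoetherianRing D] [hdim : Ring.KrullDimLE 1 D]
    [CommRing E] [IsDomain E] (φ : D →+* E) (hφ : Bir φ) (h : CAlg.IsN1 D) : CAlg.IsN1 E := by
  let K := FractionRing E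
  let _ : Algebra D E := φ.toAlgebra
  have htow : IsScalarTower D E K := inferInstance
  have hRK : ∀ r, algebraMap D K r = algebraMap E K (φ r) := fun r => IsScalarTower.algebraMap_apply D E K r
  have hB : Function.Injective (algebraMap E K) := IsFractionRing.injective E K
  have hinj : Function.Injective (algebraMap D K) := fun x y h => by
    rw [hRK, hRK] at h
    exact hφ.1 (hB h)
  have hfs : FaithfulSMul D K := (faithfulSMul_iff_algebraMap_injective _ _).mpr hinj
  have hfr : IsFractionRing D K := by
    refine IsFractionRing.of_field D K ?_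
    intro z
    obtain ⟨b, c, hc, rfl⟩ := IsFractionRing.div_surjective (A := E) z
    have hc0 : c ≠ 0 := nonZeroDivisors.ne_zero hc
    obtain ⟨s, t, hs, hst⟩ := hφ.2 b
    obtain ⟨s1, t1, hs1, hst1⟩ := hφ.2 c
    have e1 : algebraMap D K s * algebraMap E K b = algebraMap D K t := by
      rw [hRK, hRK, ← map_mul, hst]
    have e2 : algebraMap D K s1 * algebraMap E K c = algebraMap D K t1 := by
      rw [hRK, hRK, ← map_mul, hst1]
    have h1 : algebraMap D K s ≠ 0 := fun h => hs (hB (((hRK s).symm.trans h).trans (map_zero _).symm))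
    have h2 : algebraMap D K s1 ≠ 0 := fun h => hs1 (hB (((hRK s1).symm.trans h).trans (map_zero _).symm))
    have h3 : algebraMap E K c ≠ 0 := fun h => hc0 (hB (h.trans (map_zero _).symm))
    refine ⟨t * s1, s * t1, ?_⟩
    rw [map_mul, map_mul, ← e1, ← e2]
    rw [eq_comm, div_eq_div_iff (mul_ne_zero h1 (mul_ne_zero h2 h3)) h3]
    ring
  -- the normalization of `D`
  let N := integralClosure D K
  have hNfin : Module.Finite D N := (CalgA.NagAss.isN1_iff_of_isFractionRing D K).1 h
  have hDN : Function.Injective (algebraMap D N) := FaithfulSMul.algebraMap_injective D N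
  have halg : Algebra.IsAlgebraic D K := IsFractionRing.comap_isAlgebraic_iff (A := D) (K := K) |>.2 inferInstance
  have hfrN : IsFractionRing N K := by
    refine integralClosure.isFractionRing_of_algebraic (A := D) (L := K) ?_
    intro x hx
    exact hinj (hx.trans (map_zero _).symm)
  have hd1 : Ring.DimensionLEOne D := by
    refine ⟨fun {p} hp hpp => ?_⟩
    exact Ring.krullDimLE_one_iff_of_isPrime_bot.mp hdim p hp hpp
  have hN1 : Ring.DimensionLEOne N := inferInstance
  have hN2 : IsNoetherianRing N := IsNoetherianRing.of_finite D N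
  have hN : IsDedekindDomain N := by
    rw [isDedekindDomain_iff N K]
    refine ⟨inferInstance, hN2, hN1, ?_⟩
    intro x hx
    have h1 : IsIntegral D x := isIntegral_trans x hx
    exact ⟨⟨x, h1⟩, rfl⟩
  -- the overring
  obtain ⟨s, hs⟩ := hNfin.fg_top
  let T : Set K := (fun n : N => (n : K)) '' (s : Set N)
  have hTfin : T.Finite := s.finite_toSet.image _
  have hTint : ∀ x ∈ T, IsIntegral E x := by
    rintro _ ⟨n, -, rfl⟩
    exact (n.2 : IsIntegral D (n : K)).tower_top
  have hfg := fg_adjoin_of_finite hTfin hTint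
  let S : Subalgebra E K := Algebra.adjoin E T
  have hNS : ∀ n : N, (n : K) ∈ S := by
    intro n
    have h1 : n ∈ Submodule.span D (s : Set N) := by rw [hs]; trivial
    induction h1 using Submodule.span_induction with
    | mem x hx => exact Algebra.subset_adjoin ⟨x, hx, rfl⟩
    | zero => exact S.zero_mem
    | add x y _ _ hx hy => exact S.add_mem hx hy
    | smul d x _ hx =>
      have e : ((d • x : N) : K) = algebraMap E K (φ d) * (x : K) := by
        rw [← hRK, ← Algebra.smul_def]
        rfl
      rw [e]
      exact S.mul_mem (S.algebraMap_mem _) hx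
  have hSeq : integralClosure E K = S := by
    apply le_antisymm
    · intro z hz
      have hz' : IsIntegral E z := hz
      have h1 : IsIntegral S.toSubring z := by
        have : IsIntegral S z := hz'.tower_top
        exact this
      exact mem_of_isIntegral (N := N) S.toSubring (fun n => hNS n) z h1
    · exact Algebra.adjoin_le fun x hx => hTint x hx
  rw [CalgA.NagAss.isN1_iff_of_isFractionRing E K]
  rw [hSeq]
  exact Module.Finite.iff_fg.2 hfg

end K346.OverDed
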