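import Groth.Agent.Resolve.K346.SncSys
import Groth.Agent.Sga7.H150.Global

/-!
# Embedded resolution of curves on regular surfaces (helper346)

`main`: a nonzero ideal on a regular surface all of whose curves have finite normalization becomes, after a sequence
of blow-ups of closed points, an effective Cartier ideal with strict normal crossings support.
-/

set_option autoImplicit false
universe u

open CategoryTheory CategoryTheory.Limits AlgebraicGeometry TopologicalSpace IsLocalRing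

namespace K346.SncMain

open Groth.Agent Groth.Agent.Divis.CartierBasic Groth.Agent.Divis.CartierStalk Groth.Agent.CycB.LocQuot
  Groth.Agent.Resolve.K375 Groth.Agent.Resolve.K375.Tower
  Groth.Agent.Resolve.K375.Geo Groth.Agent.CurvesC.Modif Groth.Agent.Dix.PointIdeal
  Groth.Agent.Sga7.H150 Groth.Agent.Sga7.H150.Quad Groth.Agent.Sga7.H744.Defs SncSys K373.ColenAlg

variable {X Y Z S : Scheme.{u}}

theorem idealSheaf_injective {A : Type u} [CommRing A] {𝔞 𝔟 : Ideal A}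
    (h : Curv2.idealSheaf A 𝔞 = Curv2.idealSheaf A 𝔟) : 𝔞 = 𝔟 := by
  have h1 : (Curv2.idealSheaf A 𝔞).ideal ⟨⊤, isAffineOpen_top _⟩ =
      (Curv2.idealSheaf A 𝔟).ideal ⟨⊤, isAffineOpen_top _⟩ := by rw [h]
  have h2 : ∀ 𝔠 : Ideal A, (Curv2.idealSheaf A 𝔠).ideal ⟨⊤, isAffineOpen_top _⟩ =
      𝔠.map (Scheme.ΓSpecIso (CommRingCat.of A)).inv.hom := by
    intro 𝔠
    simp [Curv2.idealSheaf]
  rw [h2, h2] at h1
  have h3 := congrArg (Ideal.map (Scheme.ΓSpecIso (CommRingCat.of A)).hom.hom) h1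
  rw [Ideal.map_map, Ideal.map_map, ← CommRingCat.hom_comp, Iso.inv_hom_id, CommRingCat.hom_id] at h3
  exact (Ideal.map_id _).symm.trans (h3.trans (Ideal.map_id _))

/-- The ideal of a germ. -/
def HasIdeal (I : S.IdealSheafData) (P : Germ S) (𝔞 : Ideal P.A) : Prop := I.comap P.a = Curv2.idealSheaf P.A 𝔞

theorem HasIdeal.unique {I : S.IdealSheafData} {P : Germ S} {𝔞 𝔟 : Ideal P.A} (h : HasIdeal I P 𝔞)
    (h' : HasIdeal I P 𝔟) : 𝔞 = 𝔟 := idealSheaf_injective (h.symm.trans h')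

theorem hasIdeal_of (I : S.IdealSheafData) (r : Z ⟶ S) (z : Z) :
    HasIdeal I (Germ.of r z) (stalkIdeal (I.comap r) z) := by
  change I.comap (Z.fromSpecStalk z ≫ r) = _
  rw [Scheme.IdealSheafData.comap_comp]
  exact comap_fromSpecStalk z (I.comap r)

theorem HasIdeal.map {I : S.IdealSheafData} {P Q : Germ S} {𝔞 : Ideal P.A} (h : HasIdeal I P 𝔞)
    (φ : P.A →+* Q.A) (hφ : Spec.map (CommRingCat.ofHom φ) ≫ P.a = Q.a) : HasIdeal I Q (𝔞.map φ) := by
  change I.comap Q.a = _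
  rw [← hφ, Scheme.IdealSheafData.comap_comp]
  have h' : I.comap P.a = Curv2.idealSheaf P.A 𝔞 := h
  rw [h']
  exact Models.RMBlow.comap_SpecMap φ 𝔞

/-- Good germs. -/
def GoodG (I : S.IdealSheafData) (P : Germ S) : Prop := ∃ 𝔞 : Ideal P.A, HasIdeal I P 𝔞 ∧ GoodRing.GoodR P.A 𝔞

theorem goodG_iso {I : S.IdealSheafData} {P Q : Germ S} (h : P.Iso Q) (hP : GoodG I P) : GoodG I Q := by
  obtain ⟨e, he⟩ := h
  obtain ⟨𝔞, h1, h2⟩ := hP
  exact ⟨_, h1.map _ he, h2.map_equiv e⟩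

theorem goodG_of_iff (I : S.IdealSheafData) (r : Z ⟶ S) (z : Z) :
    GoodG I (Germ.of r z) ↔ GoodAt (I.comap r) z := by
  constructor
  · rintro ⟨𝔞, h1, h2⟩
    have h3 := h1.unique (hasIdeal_of I r z)
    rw [h3] at h2
    exact h2
  · intro h
    exact ⟨_, hasIdeal_of I r z, h⟩

/-- The system of the induction. -/
def sys (I : S.IdealSheafData) : Sys S where
  C := fun {Z} r => Cl (Z := Z) I r
  St := St
  Bad P := ¬ GoodG I P
  bad_iso := fun h hP hQ => hP (goodG_iso h.symm hQ)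
  fin := by
    intro Z r h
    refine h.finite.subset fun z hz hg => ?_
    exact hz ((goodG_of_iff I r z).2 hg)
  ex := by
    intro Z r z h hz
    rw [goodG_of_iff] at hz
    obtain ⟨Y, b, hb⟩ := exists_ptSt z (h.isClosed hz)
    have hst : St Y Z b z := ⟨h.noeth, h.reg z, h.dim_eq_two hz, hb⟩
    exact ⟨Y, b, hst, h.step hst⟩
  off _ _ _ _ hb := hb.2.2.2.off

/-- The algebraic data attached to a bad germ. -/
structure Dat (I : S.IdealSheafData) (P : Germ S) (𝔞 : Ideal P.A) : Prop where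
  reg : IsRegularLocalRing P.A
  dim : ringKrullDim P.A = 2
  has : HasIdeal I P 𝔞
  ne : 𝔞 ≠ ⊥
  n1 : N1Step.AllN1 P.A 𝔞
  bad : ¬ GoodRing.GoodR P.A 𝔞

theorem exists_dat_of {I : S.IdealSheafData} (r : Z ⟶ S) (z : Z) (h : Cl I r) (P : Germ S) (hP : P = Germ.of r z)
    (hb : ¬ GoodG I P) : ∃ 𝔞, Dat I P 𝔞 := by
  subst hP
  have hb' := hb
  rw [goodG_of_iff] at hb'
  exact ⟨stalkIdeal (I.comap r) z, h.reg z, h.dim_eq_two hb', hasIdeal_of I r z, h.ne z, h.n1 z, hb'⟩

theorem exists_quad_of_rel {I : S.IdealSheafData} {P P' : Germ S} (hrel : (sys I).Rel P' P) :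
    ∃ φ : P.A →+* P'.A, IsQuad φ ∧ Spec.map (CommRingCat.ofHom φ) ≫ P.a = P'.a := by
  obtain ⟨Z, Y, r, b, y, hC, hC', hst, hiso, rfl, hbad, hbad'⟩ := hrel
  have hC0 : Cl I r := hC
  have := hC0.modif.integral
  have := hC0.noeth
  have hst' : St Y Z b (b y) := hst
  obtain ⟨-, hreg, hdim, hz, hb⟩ := hst'
  obtain ⟨e, he⟩ := exists_hom r b y hiso
  have hdom : IsDomain (Z.presheaf.stalk (b y)) := inferInstance
  exact ⟨(b.stalkMap y).hom.comp (e : P.A →+* Z.presheaf.stalk (b y)),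
    Global.IsQuad.comp_equiv (Groth.Agent.Sga7.H558.QuadBlow.isQuad_stalkMap hb y rfl) e, he⟩

/-- The defect drops along quadratic transforms. -/
theorem cln_lt_of_quad {A B : Type u} [CommRing A] [IsRegularLocalRing A] [CommRing B] [IsRegularLocalRing B]
    (hA : ringKrullDim A = 2) (φ : A →+* B) (hφ : IsQuad φ) {J : Ideal A} (hJ : J ≠ ⊥) (h0 : cln J ≠ 0) :
    cln (J.map φ) < cln J := by
  have hdB := CalgA.RegBasic.isDomain B
  obtain ⟨hinj, hloc, x, hxm, hx, hfr⟩ := hφ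
  refine cln_lt hA φ hinj ⟨φ x, hx⟩ ?_ h0 (cln_ne_top hA.le hJ)
  intro z
  obtain ⟨n, a, ha, a1, ha1, s, hs, e1, e2⟩ := hfr z
  refine ⟨n, a, ha, a1, ha1, ?_, ?_⟩
  · rw [e1, e2, mul_assoc]
  · rw [Ideal.map_pow, hx, Ideal.span_singleton_pow, e1]
    exact (Ideal.span_singleton_mul_right_unit hs _).symm

/-- There is no infinite chain of bad germs. -/
theorem no_chain {I : S.IdealSheafData} (P : ℕ → Germ S) (𝔞 : ∀ n, Ideal (P n).A) (hD : ∀ n, Dat I (P n) (𝔞 n))
    (φ : ∀ n, (P n).A →+* (P (n + 1)).A) (hφ : ∀ n, IsQuad (φ n))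
    (hφa : ∀ n, Spec.map (CommRingCat.ofHom (φ n)) ≫ (P n).a = (P (n + 1)).a) : False := by
  have hreg := fun n => (hD n).reg
  have hdom : ∀ n, IsDomain (P n).A := fun n => CalgA.RegBasic.isDomain (P n).A
  have hmap : ∀ n, 𝔞 (n + 1) = (𝔞 n).map (φ n) := fun n =>
    (hD (n + 1)).has.unique ((hD n).has.map (φ n) (hφa n))
  -- the ideals become principal
  obtain ⟨N, hN⟩ : ∃ N, cln (𝔞 N) = 0 := by
    by_contra hno
    push Not at hno
    have hlt : ∀ n, cln (𝔞 (n + 1)) < cln (𝔞 n) := fun n => by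
      rw [hmap n]
      exact cln_lt_of_quad (hD n).dim (φ n) (hφ n) (hD n).ne (hno n)
    exact not_strictAnti_of_wellFoundedLT (fun n => cln (𝔞 n)) (strictAnti_nat_of_succ_lt hlt)
  obtain ⟨t0, ht0, hst0⟩ := (cln_eq_zero_iff _).1 hN
  let t : ∀ k, (P (N + k)).A := fun k => Nat.rec (motive := fun k => (P (N + k)).A) t0 (fun k s => φ (N + k) s) k
  have ht1 : ∀ k, t (k + 1) = φ (N + k) (t k) := fun k => rfl
  have hspan : ∀ k, 𝔞 (N + k) = Ideal.span {t k} := by
    intro k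
    induction k with
    | zero => exact hst0
    | succ k ih =>
      have h1 := hmap (N + k)
      rw [ih, Ideal.map_span, Set.image_singleton] at h1
      exact h1
  have hne : ∀ k, t k ≠ 0 := by
    intro k h
    apply (hD (N + k)).ne
    rw [hspan k, h, Set.singleton_zero, Ideal.span_zero]
  have hbad : ∀ k, ¬ IsSNCElt (P (N + k)).A (t k) := by
    intro k hk
    apply (hD (N + k)).bad
    exact ⟨t k, mem_nonZeroDivisors_of_ne_zero (hne k), hspan k, hk⟩
  let Q : ℕ → Pt.{u} := fun k => ⟨(P (N + k)).A, (hD (N + k)).dim, t k, hne k⟩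
  have hacc := acc (Q 0) (by
    intro p hp htp _
    have h1 : 𝔞 (N + 0) ≤ p := by
      rw [hspan 0, Ideal.span_singleton_le_iff_mem]
      exact htp
    exact (hD (N + 0)).n1 p h1)
  exact (not_acc_iff_exists_descending_chain.2 ⟨Q, rfl, fun k => ⟨hbad (k + 1), hbad k, φ (N + k), hφ (N + k), rfl⟩⟩) hacc

/-- Sequences of point blow-ups are contraction sequences. -/
theorem contractionSeq_of_seq {g : Y ⟶ X} (hg : Seq St g) : Models.IsContractionSeq g := by
  induction hg with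
  | id X => exact K373.ContrBasic.contrSeq_id X
  | step b z r hb hr ih =>
    obtain ⟨h1, h2, h3, hz, hbl⟩ := hb
    exact K373.ContrBasic.step b z hz h2 h3 hbl r ih

theorem radical_map_germ (I : X.IdealSheafData) (U : X.affineOpens) (p : X) (hp : p ∈ (U : X.Opens)) :
    (I.radical.ideal U).map (X.presheaf.germ (U : X.Opens) p hp).hom = (stalkIdeal I p).radical := by
  let := X.presheaf.algebra_section_stalk (⟨p, hp⟩ : U.1)
  have hloc : IsLocalization.AtPrime (X.presheaf.stalk p) (U.2.primeIdealOf ⟨p, hp⟩).asIdeal :=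
    U.2.isLocalization_stalk ⟨p, hp⟩
  have h1 := IsLocalization.map_radical (U.2.primeIdealOf ⟨p, hp⟩).asIdeal.primeCompl
    (X.presheaf.stalk p) (I.ideal U)
  rw [← Scheme.IdealSheafData.radical_ideal] at h1
  rw [stalkIdeal_eq I U hp]
  exact h1

/-- **Embedded resolution.** -/
theorem main (X : Scheme.{u}) [IsIntegral X] [IsNoetherian X]
    (hreg : ∀ x : X, IsRegularLocalRing (X.presheaf.stalk x)) (hdim : topologicalKrullDim X = 2)
    (I : X.IdealSheafData) (hI : I ≠ ⊥) (hZ : CloPt.FinNorm I) :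
    ∃ (X' : Scheme.{u}) (g : X' ⟶ X), Models.IsContractionSeq g ∧ BlowUp.IsEffCartierIdeal (I.comap g) ∧
      ∀ p : X', p ∈ ((I.comap g).support : Set X') →
        ∃ (U : X'.affineOpens) (hp : p ∈ (U : X'.Opens)) (d r : ℕ) (x : Fin d → X'.presheaf.stalk p),
          1 ≤ r ∧ r ≤ d ∧ ringKrullDim (X'.presheaf.stalk p) = (d : WithBot ℕ∞) ∧
          Ideal.span (Set.range x) = IsLocalRing.maximalIdeal (X'.presheaf.stalk p) ∧
          ((I.comap g).radical.ideal U).map (X'.presheaf.germ (U : X'.Opens) p hp).hom =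
            Ideal.span {∏ i : Fin d, if (i : ℕ) < r then x i else 1} := by
  have hX : ∀ x : X, ringKrullDim (X.presheaf.stalk x) ≤ 2 := fun x => by
    rw [← hdim]
    exact PtSeq.ringKrullDim_le X x
  have hC : Cl I (𝟙 X) := Cl.initial X hreg hX I hI hZ
  obtain ⟨X', g, hs, hC', hgood⟩ := (sys I).exists_seq (𝟙 X) hC (by
    intro z hz P hP0 hrel
    have hPn : ∀ n, ∃ (W : Scheme.{u}) (q : W ⟶ X) (w : W), Cl I q ∧ P n = Germ.of q w := by
      intro n
      rcases n with _ | n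
      · exact ⟨X, 𝟙 X, z, hC, hP0⟩
      · obtain ⟨W, Y, q, b, y, -, h2, -, -, h5, -⟩ := hrel n
        exact ⟨Y, b ≫ q, y, h2, h5.symm⟩
    have hbad : ∀ n, ¬ GoodG I (P n) := by
      intro n
      obtain ⟨_, _, _, _, _, _, _, _, _, _, h, _⟩ := hrel n
      exact h
    have hdat : ∀ n, ∃ 𝔞, Dat I (P n) 𝔞 := by
      intro n
      obtain ⟨W, q, w, hq, hw⟩ := hPn n
      exact exists_dat_of q w hq (P n) hw (hbad n)
    choose 𝔞 h𝔞 using hdat
    choose φ hφ hφa using fun n => exists_quad_of_rel (hrel n)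
    exact no_chain P 𝔞 h𝔞 φ hφ hφa)
  have hC'' : Cl I (g ≫ 𝟙 X) := hC'
  rw [Category.comp_id] at hC''
  have hgood' : ∀ y, GoodAt (I.comap g) y := by
    intro y
    have h1 := hgood y
    have h2 : GoodG I (Germ.of (g ≫ 𝟙 X) y) := not_not.1 h1
    rw [Category.comp_id] at h2
    exact (goodG_of_iff I g y).1 h2
  have := hC''.noeth
  refine ⟨X', g, contractionSeq_of_seq hs, ?_, ?_⟩
  · refine K373.Principal.isEffCartier_of_inv fun x => ?_
    obtain ⟨t, ht, he, -⟩ := hgood' x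
    exact ⟨t, ht, he⟩
  · intro p hp
    obtain ⟨U, hpU⟩ := exists_affine p
    have := hC''.reg p
    obtain ⟨d, r, x, h1, h2, h3, h4, h5⟩ := GoodRing.exists_params (hC''.dim p) (hgood' p)
      ((mem_support_iff_stalkIdeal_ne_top (I.comap g) p).1 hp)
    exact ⟨U, hpU, d, r, x, h1, h2, h3, h4, (radical_map_germ (I.comap g) U p hpU).trans h5⟩

end K346.SncMain
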