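import Groth.Agent.Resolve.K346.CloPt
import Groth.Agent.Resolve.K375.CurveSeq
import Groth.Agent.Resolve.K373.PrincipalApp
import Groth.Agent.Sga5.ProjReg
import Groth.Agent.Dix.ExcCurve

/-!
# Embedded resolution of curves on regular surfaces: the class of modifications (helper346)

* `GoodAt I x`: the ideal sheaf `I` is in strict normal crossings form at `x`.
* `Cl I r`: regular surfaces `Z ⟶ S` on which `I` is in normal crossings form near the points of codimension one and
  all curves in the support have finite normalization.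
* `Cl.finite`, `Cl.step`.
-/

set_option autoImplicit false
universe u

open CategoryTheory CategoryTheory.Limits AlgebraicGeometry TopologicalSpace IsLocalRing

namespace K346.SncSys

open Groth.Agent Groth.Agent.Divis.CartierBasic Groth.Agent.Divis.CartierStalk Groth.Agent.CycB.LocQuot
  Groth.Agent.Divis.StalkPrime Groth.Agent.Resolve.K375 Groth.Agent.Resolve.K375.Tower
  Groth.Agent.Resolve.K375.Geo Groth.Agent.CurvesC.Modif Groth.Agent.Dix.PointIdeal
  Groth.Agent.Resolve.K375.GChain CloPt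

variable {X Y Z S : Scheme.{u}}

/-- The ideal sheaf is in strict normal crossings form at `x`. -/
def GoodAt (I : X.IdealSheafData) (x : X) : Prop := GoodRing.GoodR (X.presheaf.stalk x) (stalkIdeal I x)

theorem goodAt_of_notMem {I : X.IdealSheafData} {x : X} (h : x ∉ I.support) : GoodAt I x := by
  rw [GoodAt, (notMem_support_iff_stalkIdeal_eq_top I x).1 h]
  exact GoodRing.goodR_top _

theorem goodAt_comap_iff (I : X.IdealSheafData) (f : Y ⟶ X) (y : Y) [IsIso (f.stalkMap y)] :
    GoodAt (I.comap f) y ↔ GoodAt I (f y) := by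
  rw [GoodAt, GoodAt, stalkIdeal_comap]
  exact GoodRing.goodR_map_equiv_iff (asIso (f.stalkMap y)).commRingCatIsoToRingEquiv (stalkIdeal I (f y))

theorem goodAt_of_dim_le_one (I : X.IdealSheafData) (x : X) (hreg : IsRegularLocalRing (X.presheaf.stalk x))
    (hd : ringKrullDim (X.presheaf.stalk x) ≤ 1) (h0 : stalkIdeal I x ≠ ⊥) : GoodAt I x :=
  GoodRing.goodR_of_dim_le_one hd h0

/-- Normal crossings near a point of codimension one. -/
theorem exists_good_nhds [IsLocallyNoetherian X] (I M : X.IdealSheafData) (ξ : X)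
    (hreg : ∀ x : X, IsRegularLocalRing (X.presheaf.stalk x)) (hξ : ringKrullDim (X.presheaf.stalk ξ) ≤ 1)
    (hm : maximalIdeal (X.presheaf.stalk ξ) ≠ ⊥)
    (hI0 : stalkIdeal I ξ ≠ ⊥) (V : X.Opens) (hξV : ξ ∈ V) (hV : ∀ y ∈ V, Reg1 M y)
    (hM : stalkIdeal M ξ ≠ ⊤) : ∃ U : X.Opens, ξ ∈ U ∧ ∀ y ∈ U, GoodAt I y := by
  have := hreg ξ
  obtain ⟨π, h1, h2, h3, h4⟩ := GoodRing.exists_uniformizer hξ hm
  obtain ⟨n, hn⟩ := h4 _ hI0
  -- `M_ξ` is the maximal ideal
  have hMξ : stalkIdeal M ξ = Ideal.span {π} := by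
    rcases hV ξ hξV with ⟨t, ht, ht2, he⟩ | he
    · have ht0 : stalkIdeal M ξ ≠ ⊥ := by
        rw [he, Ne, Ideal.span_singleton_eq_bot]
        rintro rfl
        exact ht2 (Ideal.zero_mem _)
      obtain ⟨k, hk⟩ := h4 _ ht0
      have hk1 : k = 1 := by
        by_contra hne
        rcases Nat.lt_or_ge k 1 with hk0 | hk2
        · obtain rfl : k = 0 := by omega
          rw [pow_zero, Ideal.one_eq_top] at hk
          exact hM hk
        · apply ht2
          have h5 : t ∈ stalkIdeal M ξ := by rw [he]; exact Ideal.mem_span_singleton_self t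
          rw [hk, ← h1] at h5
          exact Ideal.pow_le_pow_right (show 2 ≤ k by omega) h5
      rw [hk, hk1, pow_one]
    · exact absurd he hM
  have h5 : stalkIdeal I ξ = stalkIdeal (M ^ n) ξ := by
    rw [stalkIdeal_pow, hMξ, hn]
  let U1 : X.Opens := ⟨{x | stalkIdeal I x ≤ stalkIdeal (M ^ n) x}, Sga7.H543.SecStalk.isOpen_stalkIdeal_le _ _⟩
  let U2 : X.Opens := ⟨{x | stalkIdeal (M ^ n) x ≤ stalkIdeal I x}, Sga7.H543.SecStalk.isOpen_stalkIdeal_le _ _⟩
  refine ⟨V ⊓ (U1 ⊓ U2), ⟨hξV, h5.le, h5.ge⟩, ?_⟩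
  rintro y ⟨hyV, hy1, hy2⟩
  have h6 : stalkIdeal I y = stalkIdeal M y ^ n := by
    rw [← stalkIdeal_pow]
    exact le_antisymm hy1 hy2
  have := hreg y
  rcases hV y hyV with ⟨t, ht, ht2, he⟩ | he
  · rw [GoodAt, h6, he]
    exact GoodRing.goodR_pow t ht ht2 n
  · rw [GoodAt, h6, he, Ideal.top_pow]
    exact GoodRing.goodR_top _

/-- Normal crossings near points of codimension zero. -/
theorem exists_good_nhds_of_notMem (I : X.IdealSheafData) (ξ : X) (h : ξ ∉ I.support) :
    ∃ U : X.Opens, ξ ∈ U ∧ ∀ y ∈ U, GoodAt I y :=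
  ⟨⟨(I.support : Set X)ᶜ, I.support.isClosed.isOpen_compl⟩, h, fun _ hy => goodAt_of_notMem hy⟩

theorem maximalIdeal_ne_bot_of_mem (I : X.IdealSheafData) (ξ : X) (h : ξ ∈ I.support) (h0 : stalkIdeal I ξ ≠ ⊥) :
    maximalIdeal (X.presheaf.stalk ξ) ≠ ⊥ := by
  intro hm
  have h1 := (mem_support_iff_stalkIdeal_le I ξ).1 h
  rw [hm, le_bot_iff] at h1
  exact h0 h1

/-- The class of the induction. -/
structure Cl (I : S.IdealSheafData) (r : Z ⟶ S) : Prop where
  modif : IsModif r
  noeth : IsNoetherian Z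
  reg : ∀ z : Z, IsRegularLocalRing (Z.presheaf.stalk z)
  dim : ∀ z : Z, ringKrullDim (Z.presheaf.stalk z) ≤ 2
  ne : ∀ z : Z, stalkIdeal (I.comap r) z ≠ ⊥
  nb : ∀ z : Z, ringKrullDim (Z.presheaf.stalk z) ≤ 1 → ∃ U : Z.Opens, z ∈ U ∧ ∀ y ∈ U, GoodAt (I.comap r) y
  n1 : ∀ z : Z, N1Step.AllN1 (Z.presheaf.stalk z) (stalkIdeal (I.comap r) z)

theorem le_one_of_not_two_le {x : X} (h : ¬ ((2 : ℕ) : WithBot ℕ∞) ≤ ringKrullDim (X.presheaf.stalk x)) :
    ringKrullDim (X.presheaf.stalk x) ≤ 1 := by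
  rw [not_le] at h
  rw [ringKrullDim_stalk_eq_coheight] at h ⊢
  have h1 : Order.coheight x < 2 := WithBot.coe_lt_coe.1 h
  exact WithBot.coe_le_coe.2 (Order.le_of_lt_add_one h1)

theorem Cl.finite {I : S.IdealSheafData} {r : Z ⟶ S} (h : Cl I r) : {z : Z | ¬ GoodAt (I.comap r) z}.Finite := by
  have := h.noeth
  let W : Z.Opens := sSup {U : Z.Opens | ∀ y ∈ U, GoodAt (I.comap r) y}
  have h1 : ((W : Set Z)ᶜ).Finite := by
    refine finite_of_dim 2 (fun z => h.dim z) W.isOpen.isClosed_compl ?_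
    intro z hz
    by_contra hlt
    obtain ⟨U, hzU, hU⟩ := h.nb z (le_one_of_not_two_le hlt)
    apply hz
    exact (le_sSup (show U ∈ {U : Z.Opens | ∀ y ∈ U, GoodAt (I.comap r) y} from hU)) hzU
  refine h1.subset fun z hz hzW => hz ?_
  obtain ⟨U, hU, hzU⟩ := (TopologicalSpace.Opens.mem_sSup).1 hzW
  exact hU z hzU

theorem Cl.dim_eq_two {I : S.IdealSheafData} {r : Z ⟶ S} (h : Cl I r) {z : Z} (hz : ¬ GoodAt (I.comap r) z) :
    ringKrullDim (Z.presheaf.stalk z) = 2 := by
  apply le_antisymm (h.dim z)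
  by_contra hlt
  exact hz (goodAt_of_dim_le_one _ z (h.reg z) (le_one_of_not_two_le hlt) (h.ne z))

theorem Cl.isClosed {I : S.IdealSheafData} {r : Z ⟶ S} (h : Cl I r) {z : Z} (hz : ¬ GoodAt (I.comap r) z) :
    IsClosed ({z} : Set Z) := isClosed_of_dim 2 (fun z => h.dim z) z (h.dim_eq_two hz).ge

theorem ne_generic {z : Z} [IsIntegral Z] (hz : ringKrullDim (Z.presheaf.stalk z) = 2) : z ≠ genericPoint Z := by
  rintro rfl
  let _ : Field (Z.presheaf.stalk (genericPoint Z)) := inferInstanceAs (Field Z.functionField)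
  have h1 := ringKrullDim_eq_zero_of_field (Z.presheaf.stalk (genericPoint Z))
  rw [h1] at hz
  exact absurd hz (by decide)

/-- The steps of the induction: blow-ups of closed points with regular two-dimensional local ring. -/
def St (Y Z : Scheme.{u}) (b : Y ⟶ Z) (z : Z) : Prop :=
  IsNoetherian Z ∧ IsRegularLocalRing (Z.presheaf.stalk z) ∧ ringKrullDim (Z.presheaf.stalk z) = 2 ∧ PtSt Y Z b z

/-- The exceptional divisor is generated by regular parameters. -/
theorem reg1_exc {b : Y ⟶ Z} {z : Z} (hz : IsClosed ({z} : Set Z)) (hb : BlowUp.IsBlowUp b (pt z hz))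
    (hreg : IsRegularLocalRing (Z.presheaf.stalk z)) (hdim : ringKrullDim (Z.presheaf.stalk z) = 2)
    (hYreg : ∀ y : Y, IsRegularLocalRing (Y.presheaf.stalk y)) (y : Y) : Reg1 ((pt z hz).comap b) y := by
  by_cases hy : b y = z
  · obtain ⟨i, hi, hker, -⟩ := Groth.Agent.Dix.ExcCurve.exists_curve b z hz hdim hb
    have hysupp : y ∈ ((pt z hz).comap b).support := by
      have h1 : y ∈ (((pt z hz).comap b).support : Set Y) := by
        rw [Scheme.IdealSheafData.support_comap, TopologicalSpace.Closeds.coe_preimage]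
        exact (mem_support_pt z hz _).2 hy
      exact h1
    have hrange : y ∈ Set.range i := by
      have h1 : (i.ker.support : Set Y) = Set.range i := by
        rw [Scheme.Hom.support_ker, i.isClosedEmbedding.isClosed_range.closure_eq]
      rw [← h1, hker]
      exact hysupp
    obtain ⟨e, rfl⟩ := hrange
    let _ : Field (Z.presheaf.stalk z ⧸ maximalIdeal (Z.presheaf.stalk z)) := Ideal.Quotient.field _
    have h2 := Groth.Agent.Sga5.ProjReg.isRegularLocalRing_stalk 1
      (Z.presheaf.stalk z ⧸ maximalIdeal (Z.presheaf.stalk z)) e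
    have hsurj : Function.Surjective (i.stalkMap e).hom := i.stalkMap_surjective e
    have hkere : RingHom.ker (i.stalkMap e).hom = stalkIdeal ((pt z hz).comap b) (i e) := by
      rw [ker_stalkMap, hker]
    have hregq : IsRegularLocalRing (Y.presheaf.stalk (i e) ⧸ stalkIdeal ((pt z hz).comap b) (i e)) := by
      rw [← hkere]
      exact IsRegularLocalRing.of_ringEquiv (RingHom.quotientKerEquivOfSurjective hsurj).symm
    have hprime : (stalkIdeal ((pt z hz).comap b) (i e)).IsPrime := by
      have := CalgA.RegBasic.isDomain (Y.presheaf.stalk (i e) ⧸ stalkIdeal ((pt z hz).comap b) (i e))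
      exact (Ideal.Quotient.isDomain_iff_prime _).1 this
    have := hYreg (i e)
    have hdom := CalgA.RegBasic.isDomain (Y.presheaf.stalk (i e))
    obtain ⟨g, hg, hgs⟩ := exists_stalkIdeal_eq_span hb.1 (i e)
    have hg0 : g ≠ 0 := nonZeroDivisors.ne_zero hg
    have hprin : (stalkIdeal ((pt z hz).comap b) (i e)).IsPrincipal := ⟨⟨g, hgs⟩⟩
    obtain ⟨t, ht, ht2, he⟩ := Groth.Agent.Sga7.H592.SncAlg.exists_gen (stalkIdeal ((pt z hz).comap b) (i e))
      (Ideal.height_le_one_of_isPrincipal_of_mem_minimalPrimes (stalkIdeal ((pt z hz).comap b) (i e)) _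
        ⟨⟨hprime, le_rfl⟩, fun q hq _ => hq.2⟩) (by
        rw [hgs, Ne, Ideal.span_singleton_eq_bot]
        exact hg0)
    exact Or.inl ⟨t, ht, ht2, he⟩
  · right
    rw [← notMem_support_iff_stalkIdeal_eq_top]
    intro h1
    apply hy
    have h2 : y ∈ (((pt z hz).comap b).support : Set Y) := h1
    rw [Scheme.IdealSheafData.support_comap, TopologicalSpace.Closeds.coe_preimage] at h2
    exact (mem_support_pt z hz _).1 h2

theorem Cl.step {I : S.IdealSheafData} {r : Z ⟶ S} (h : Cl I r) {b : Y ⟶ Z} {z : Z} (hb : St Y Z b z) :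
    Cl I (b ≫ r) := by
  obtain ⟨-, hregz, hdimz, hst⟩ := hb
  have := h.modif.integral
  have := h.noeth
  have hne := ne_generic hdimz
  have hm := hst.isModif hne
  have := hm.integral
  have := hm.proper
  have hbir := isBir_of_isModif hm
  have hln : IsLocallyNoetherian Y := LocallyOfFiniteType.isLocallyNoetherian b
  have hcs : CompactSpace Y := QuasiCompact.compactSpace_of_compactSpace b
  have hn : IsNoetherian Y := {}
  have hoff := hst.off
  obtain ⟨hz, hbl⟩ := hst
  have hcomap : I.comap (b ≫ r) = (I.comap r).comap b := Scheme.IdealSheafData.comap_comp _ _ _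
  have hreg : ∀ y : Y, IsRegularLocalRing (Y.presheaf.stalk y) := by
    intro y
    by_cases hy : b y = z
    · exact Groth.Agent.Sga7.H558.QuadBlow.isRegularLocalRing_stalk hbl hdimz y hy
    · have := hoff.iso y hy
      have := h.reg (b y)
      exact IsRegularLocalRing.of_ringEquiv (asIso (b.stalkMap y)).commRingCatIsoToRingEquiv
  have hdim : ∀ y : Y, ringKrullDim (Y.presheaf.stalk y) ≤ 2 := by
    intro y
    by_cases hy : b y = z
    · exact Groth.Agent.Sga7.H558.QuadBlow.ringKrullDim_stalk_le hbl hdimz y hy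
    · have := hoff.iso y hy
      rw [← ringKrullDim_eq_of_ringEquiv (asIso (b.stalkMap y)).commRingCatIsoToRingEquiv]
      exact h.dim (b y)
  have hbiry : ∀ y : Y, Bir (b.stalkMap y).hom := fun y => bir_stalkMap b hbir.gen hbir.bir y
  have hne' : ∀ y : Y, stalkIdeal (I.comap (b ≫ r)) y ≠ ⊥ := by
    intro y
    rw [hcomap, stalkIdeal_comap, Ne, Ideal.map_eq_bot_iff_of_injective (hbiry y).1]
    exact h.ne (b y)
  refine ⟨hm.comp h.modif, hn, hreg, hdim, hne', fun y hy1 => ?_, fun y => ?_⟩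
  · by_cases hy : b y = z
    · have hysupp : y ∈ ((pt z hz).comap b).support := by
        have h1 : y ∈ (((pt z hz).comap b).support : Set Y) := by
          rw [Scheme.IdealSheafData.support_comap, TopologicalSpace.Closeds.coe_preimage]
          exact (mem_support_pt z hz _).2 hy
        exact h1
      have hMtop : stalkIdeal ((pt z hz).comap b) y ≠ ⊤ := (mem_support_iff_stalkIdeal_ne_top _ _).1 hysupp
      have hM0 : stalkIdeal ((pt z hz).comap b) y ≠ ⊥ := by
        obtain ⟨g, hg, hgs⟩ := exists_stalkIdeal_eq_span hbl.1 y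
        rw [hgs, Ne, Ideal.span_singleton_eq_bot]
        exact nonZeroDivisors.ne_zero hg
      exact exists_good_nhds _ ((pt z hz).comap b) y hreg hy1 (maximalIdeal_ne_bot_of_mem _ y hysupp hM0) (hne' y) ⊤
        trivial (fun w _ => reg1_exc hz hbl hregz hdimz hreg w) hMtop
    · have hiso := hoff.iso y hy
      have h1 : ringKrullDim (Z.presheaf.stalk (b y)) ≤ 1 := by
        rw [ringKrullDim_eq_of_ringEquiv (asIso (b.stalkMap y)).commRingCatIsoToRingEquiv]
        exact hy1
      obtain ⟨U, hyU, hU⟩ := h.nb (b y) h1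
      let U' : Z.Opens := U ⊓ ⟨{z}ᶜ, hz.isOpen_compl⟩
      refine ⟨b ⁻¹ᵁ U', ⟨hyU, hy⟩, fun w hw => ?_⟩
      have := hoff.iso w hw.2
      rw [hcomap, goodAt_comap_iff]
      exact hU _ hw.1
  · rw [hcomap, stalkIdeal_comap]
    by_cases hy : b y = z
    · subst hy
      have hE := reg1_exc hz hbl hregz hdimz hreg y
      have hs : stalkIdeal (pt (b y) hz) (b y) = maximalIdeal (Z.presheaf.stalk (b y)) := stalkIdeal_pt (b y) hz
      have hmap : stalkIdeal ((pt (b y) hz).comap b) y =
          (maximalIdeal (Z.presheaf.stalk (b y))).map (b.stalkMap y).hom := by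
        rw [stalkIdeal_comap, hs]
      rcases hE with ⟨t, ht, ht2, he⟩ | he
      · have := hreg y
        rw [hmap] at he
        exact N1Step.AllN1.quad hdimz (hdim y) (b.stalkMap y).hom (hbiry y) t he ht ht2 (h.ne (b y)) (h.n1 (b y))
      · exfalso
        rw [hmap] at he
        have hloc : IsLocalHom (b.stalkMap y).hom := inferInstance
        have h3 : (maximalIdeal (Z.presheaf.stalk (b y))).map (b.stalkMap y).hom ≤
            maximalIdeal (Y.presheaf.stalk y) :=
          ((IsLocalRing.local_hom_TFAE (b.stalkMap y).hom).out 0 2).1 hloc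
        rw [he] at h3
        exact Ideal.IsPrime.ne_top (inferInstance : (maximalIdeal (Y.presheaf.stalk y)).IsPrime) (top_le_iff.1 h3)
    · have := hoff.iso y hy
      exact N1Step.AllN1.map_equiv (asIso (b.stalkMap y)).commRingCatIsoToRingEquiv (h.n1 (b y))

/-- The initial surface. -/
theorem Cl.initial (X : Scheme.{u}) [IsIntegral X] [IsNoetherian X]
    (hreg : ∀ x : X, IsRegularLocalRing (X.presheaf.stalk x))
    (hX : ∀ x : X, ringKrullDim (X.presheaf.stalk x) ≤ 2) (I : X.IdealSheafData) (hI : I ≠ ⊥) (hN : FinNorm I) :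
    Cl I (𝟙 X) := by
  have h0 : ∀ x : X, stalkIdeal I x ≠ ⊥ := fun x => K373.PrincipalApp.stalkIdeal_ne_bot hI x
  refine ⟨⟨inferInstance, inferInstance, ⊤, ⟨genericPoint X, trivial⟩, inferInstance⟩, inferInstance, hreg, hX, ?_, ?_, ?_⟩
  · rw [Scheme.IdealSheafData.comap_id]
    exact h0
  · rw [Scheme.IdealSheafData.comap_id]
    intro ξ hξ
    by_cases hξI : ξ ∈ I.support
    · have hm := maximalIdeal_ne_bot_of_mem I ξ hξI (h0 ξ)
      have hξg : ξ ≠ genericPoint X := by
        rintro rfl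
        let _ : Field (X.presheaf.stalk (genericPoint X)) := inferInstanceAs (Field X.functionField)
        exact hm ((isField_iff_maximalIdeal_eq (R := X.presheaf.stalk (genericPoint X))).1
          (Field.toIsField X.functionField))
      have hξ1 : ringKrullDim (X.presheaf.stalk ξ) = 1 := le_antisymm hξ (one_le_ringKrullDim hξg)
      obtain ⟨V, hξV, hV⟩ := exists_reg1_nhds hX hreg hN hξ1 hξI
      refine exists_good_nhds I (clo ξ) ξ hreg hξ hm (h0 ξ) V hξV hV ?_
      rw [stalkIdeal_clo_self]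
      exact Ideal.IsPrime.ne_top inferInstance
    · exact exists_good_nhds_of_notMem I ξ hξI
  · rw [Scheme.IdealSheafData.comap_id]
    exact fun z => allN1 hX hN z (h0 z)

end K346.SncSys
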